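import Mathlib
import Cfsg.Agent.Lib.Block.ClassMul
import Cfsg.Agent.Lib.Block.Cube.Torus
import Cfsg.Agent.Lib.Char.Det
import Cfsg.Agent.Lib.Char.Kernel
import Cfsg.Agent.Lib.Char.Constituent

/-!
Central characters on the centre, sums over the characters above a linear character of the centre,
and the commutators of an element whose square is central.
-/

set_option autoImplicit false

namespace Cfsg.Agent.Block.PMinusTwo

open scoped ComplexConjugate
open Cfsg Cfsg.Agent.Block Cfsg.Agent.Char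

universe u

variable {G : Type u} [Group G] [Fintype G]

theorem exists_omega (ψ : IrrCharacter G) :
    ∃ l : Subgroup.center G →* ℂˣ, ∀ (z : Subgroup.center G) (g : G),
      (ψ : G → ℂ) ((z : G) * g) = (l z : ℂ) * (ψ : G → ℂ) g := by
  choose c hc hcg using fun z : Subgroup.center G => IsIrr.scalar_of_center ψ.2 z.2
  have h1 : (ψ : G → ℂ) 1 ≠ 0 := IsIrr.one_ne_zero ψ.2
  let f : Subgroup.center G →* ℂ :=
    { toFun := c
      map_one' := by
        refine mul_right_cancel₀ h1 ?_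
        rw [← hcg, OneMemClass.coe_one, mul_one, one_mul]
      map_mul' := fun z w => by
        refine mul_right_cancel₀ h1 ?_
        rw [← hcg, mul_assoc, ← hcg, Subgroup.coe_mul, mul_assoc, hcg] }
  exact ⟨f.toHomUnits, fun z g => hcg z g⟩

/-- The character of the centre below `ψ`. -/
noncomputable def omega (ψ : IrrCharacter G) : Subgroup.center G →* ℂˣ := (exists_omega ψ).choose

theorem omega_spec (ψ : IrrCharacter G) (z : Subgroup.center G) (g : G) :
    (ψ : G → ℂ) ((z : G) * g) = (omega ψ z : ℂ) * (ψ : G → ℂ) g :=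
  (exists_omega ψ).choose_spec z g

theorem omega_at_one (ψ : IrrCharacter G) (z : Subgroup.center G) :
    (ψ : G → ℂ) (z : G) = (omega ψ z : ℂ) * (ψ : G → ℂ) 1 := by
  rw [← omega_spec, mul_one]

theorem omega_right (ψ : IrrCharacter G) (z : Subgroup.center G) (g : G) :
    (ψ : G → ℂ) (g * (z : G)) = (omega ψ z : ℂ) * (ψ : G → ℂ) g := by
  rw [Subgroup.mem_center_iff.1 z.2 g, omega_spec]

theorem norm_omega (ψ : IrrCharacter G) (z : Subgroup.center G) : ‖(omega ψ z : ℂ)‖ = 1 := by
  obtain ⟨c, hc, hcg⟩ := IsIrr.scalar_of_center ψ.2 z.2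
  have h := omega_spec ψ z 1
  rw [hcg] at h
  rw [← mul_right_cancel₀ (IsIrr.one_ne_zero ψ.2) h, hc]

theorem omega_conj_mul (ψ : IrrCharacter G) (z : Subgroup.center G) :
    conj (omega ψ z : ℂ) * (omega ψ z : ℂ) = 1 := by
  rw [mul_comm, Complex.mul_conj, Complex.normSq_eq_norm_sq, norm_omega]
  norm_num

theorem omega_eq_of_value (ψ ψ' : IrrCharacter G) {g : G} (hg : (ψ : G → ℂ) g ≠ 0)
    (h : ∀ z : Subgroup.center G, (ψ : G → ℂ) ((z : G) * g) = (omega ψ' z : ℂ) * (ψ : G → ℂ) g) :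
    omega ψ = omega ψ' :=
  MonoidHom.ext fun z => Units.ext (mul_right_cancel₀ hg ((omega_spec ψ z g).symm.trans (h z)))

/-- The characters with the central character of `ψ₀`. -/
noncomputable def overC (ψ₀ : IrrCharacter G) : Finset (IrrCharacter G) := by
  classical
  exact Finset.univ.filter fun ψ => omega ψ = omega ψ₀

theorem mem_overC {ψ ψ₀ : IrrCharacter G} : ψ ∈ overC ψ₀ ↔ omega ψ = omega ψ₀ := by
  classical
  simp [overC]

/-- The sum over the characters with a given central character, through the centre. -/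
theorem average (ψ₀ : IrrCharacter G) (F : IrrCharacter G → ℂ) [Fintype (Subgroup.center G)] :
    ∑ z : Subgroup.center G, (omega ψ₀ z : ℂ) * ∑ ψ : IrrCharacter G, conj (omega ψ z : ℂ) * F ψ =
      (Nat.card (Subgroup.center G) : ℂ) * ∑ ψ ∈ overC ψ₀, F ψ := by
  classical
  rw [show ∑ ψ ∈ overC ψ₀, F ψ = ∑ ψ : IrrCharacter G, if omega ψ = omega ψ₀ then F ψ else 0 by
    rw [← Finset.sum_filter]
    exact Finset.sum_congr (Finset.ext fun ψ => by simp [mem_overC]) fun _ _ => rfl]
  simp only [Finset.mul_sum]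
  rw [Finset.sum_comm]
  refine Finset.sum_congr rfl fun ψ _ => ?_
  simp only [← mul_assoc, ← Finset.sum_mul, mul_ite, mul_zero]
  have hinv : ∀ z, ((omega ψ z)⁻¹ : ℂˣ) = (conj (omega ψ z : ℂ)) := fun z => by
    rw [Units.val_inv_eq_inv_val]
    exact inv_eq_of_mul_eq_one_left (omega_conj_mul ψ z)
  by_cases h : omega ψ = omega ψ₀
  · rw [if_pos h, Finset.sum_congr rfl (g := fun _ => (1 : ℂ)) fun z _ => by
      rw [← h, mul_comm, omega_conj_mul], Finset.sum_const, Finset.card_univ, nsmul_one,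
      ← Nat.card_eq_fintype_card]
  · rw [if_neg h]
    have hl : omega ψ₀ * (omega ψ)⁻¹ ≠ 1 := fun e => h (mul_inv_eq_one.1 e).symm
    have h0 := linear_sum _ hl
    rw [Finset.sum_congr rfl (g := fun z => ((omega ψ₀ * (omega ψ)⁻¹) z : ℂ)) fun z _ => by
      rw [MonoidHom.mul_apply, MonoidHom.inv_apply, Units.val_mul, hinv], h0, zero_mul]

/-- A faithful character reaches its degree in modulus only on the centre. -/
theorem mem_center_of_norm (ψ : IrrCharacter G)
    (hfaith : ∀ g : G, (ψ : G → ℂ) g = (ψ : G → ℂ) 1 → g = 1) {g : G}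
    (hg : ‖(ψ : G → ℂ) g‖ = (charDegree (ψ : G → ℂ) : ℝ)) : g ∈ Subgroup.center G := by
  obtain ⟨f, n, ρ, hρ, rfl⟩ := ψ
  have hn : charDegree ρ.character = Module.finrank ℂ (Fin n → ℂ) := by
    simp [charDegree, Representation.char_one]
  obtain ⟨ω, hω⟩ := (norm_character_eq_iff ρ g).1 (by rw [← hn]; exact hg)
  refine Subgroup.mem_center_iff.2 fun x => ?_
  have h1 : ρ (x * g * (g * x)⁻¹) = 1 := by
    have h2 : ρ (x * g) = ρ (g * x) := by
      rw [map_mul, map_mul, hω, ← Module.End.one_eq_id, mul_smul_comm, smul_mul_assoc, one_mul,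
        mul_one]
    rw [map_mul, h2, ← map_mul, mul_inv_cancel, map_one]
  have h3 := hfaith (x * g * (g * x)⁻¹) (by
    show ρ.character _ = ρ.character _
    simp only [Representation.character]
    rw [h1, ← map_one ρ])
  exact mul_inv_eq_one.1 h3

/-- With a faithful character of odd degree there is no commutator `[s, g]` conjugate to `u z`,
`z ≠ 1` central. -/
theorem not_conj {p : ℕ} [hp : Fact p.Prime] (hp2 : p ≠ 2) (hZ : ¬ p ∣ Nat.card (Subgroup.center G))
    (ζ : IrrCharacter G) (hfaith : ∀ g : G, (ζ : G → ℂ) g = (ζ : G → ℂ) 1 → g = 1)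
    (hodd : Odd (charDegree (ζ : G → ℂ))) {u s z g : G} (hu : orderOf u = p)
    (hs : s * s ∈ Subgroup.center G) (hz : z ∈ Subgroup.center G) (hz1 : z ≠ 1) :
    ¬ IsConj (u * z) (s * (g * s⁻¹ * g⁻¹)) := by
  intro hc
  obtain ⟨k, hk⟩ := isConj_iff.1 hc
  set v := k * u * k⁻¹ with hv
  set t := g * s⁻¹ * g⁻¹ with ht
  have hzc := Subgroup.mem_center_iff.1 hz
  have hvz : s * t = v * z := by
    rw [← hk, hv, mul_assoc (k * u), hzc k⁻¹]; group
  have hvp : v ^ p = 1 := by rw [hv, conj_pow, ← hu, pow_orderOf_eq_one, mul_one, mul_inv_cancel]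
  have hss := Subgroup.mem_center_iff.1 hs
  have ht2 : t⁻¹ = s * s * t := by
    have e : t * t = (s * s)⁻¹ := by
      calc t * t = g * (s * s)⁻¹ * g⁻¹ := by rw [ht]; group
        _ = (s * s)⁻¹ := by
          rw [Subgroup.mem_center_iff.1 (inv_mem hs) g, mul_inv_cancel_right]
    rw [← hss t]
    calc t⁻¹ = t⁻¹ * ((s * s)⁻¹ * (s * s)) := by group
      _ = t * (s * s) := by rw [← e]; group
  have hflip : (s * v * s⁻¹) * z = v⁻¹ * z⁻¹ := by
    calc (s * v * s⁻¹) * z = s * (v * z) * s⁻¹ := by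
          rw [mul_assoc (s * v), hzc s⁻¹]; group
      _ = (s * t)⁻¹ := by rw [← hvz, mul_inv_rev, ht2]; group
      _ = v⁻¹ * z⁻¹ := by
          rw [hvz, mul_inv_rev, ← Subgroup.mem_center_iff.1 (inv_mem hz) v⁻¹]
  have hzz : z * z = 1 := by
    have h1 := congrArg (fun w => w ^ p) hflip
    simp only [(show Commute (s * v * s⁻¹) z from hzc _).mul_pow,
      (show Commute v⁻¹ z⁻¹ from Subgroup.mem_center_iff.1 (inv_mem hz) v⁻¹).mul_pow, conj_pow, hvp,
      inv_pow, mul_one, mul_inv_cancel, one_mul, inv_one] at h1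
    have h2 : (z * z) ^ p = 1 := by
      rw [(Commute.refl z).mul_pow]
      exact mul_eq_one_iff_eq_inv.2 h1
    rcases (Nat.dvd_prime hp.out).1 (orderOf_dvd_of_pow_eq_one h2) with h3 | h3
    · exact orderOf_eq_one_iff.1 h3
    · exact absurd (h3 ▸ Subgroup.orderOf_dvd_natCard _ (mul_mem hz hz)) hZ
  -- the element lies in the derived group
  have hcomm : v * z ∈ commutator G := by
    rw [← hvz, ht, commutator_def]
    simpa [commutatorElement_def, mul_assoc] using
      Subgroup.commutator_mem_commutator (Subgroup.mem_top s) (Subgroup.mem_top g)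
  have hzmem : z ∈ commutator G := by
    obtain ⟨j, hj⟩ := hp.out.odd_of_ne_two hp2
    have e : (v * z) ^ (p + 1) = v := by
      rw [(show Commute v z from hzc v).mul_pow, pow_succ, hvp, one_mul,
        show p + 1 = 2 * (j + 1) by omega, pow_mul, pow_two, hzz, one_pow, mul_one]
    have h1 := (commutator G).mul_mem (inv_mem (e ▸ (commutator G).pow_mem hcomm (p + 1) :
      v ∈ commutator G)) hcomm
    rwa [inv_mul_cancel_left] at h1
  obtain ⟨n, ρ, hρ, hρχ, hn, -⟩ := IsIrr.exists_rep ζ.2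
  haveI := hρ
  have hdet : detUnits ρ z = 1 := MonoidHom.mem_ker.1
    (Abelianization.commutator_subset_ker _ hzmem)
  obtain ⟨c, hc'⟩ := schur_scalar ρ (ρ z) fun h => by
    show ρ z * ρ h = ρ h * ρ z
    rw [← map_mul, ← map_mul, hzc h]
  have hcn : c ^ n = 1 := by
    have := congrArg Units.val hdet
    rwa [detUnits_apply, hc', LinearMap.det_smul, Module.finrank_fin_fun, LinearMap.det_id, mul_one,
      Units.val_one] at this
  have hnd : charDegree (ζ : G → ℂ) = n := by simp [charDegree, hn]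
  have hn0 : (n : ℂ) ≠ 0 := hn ▸ IsIrr.one_ne_zero ζ.2
  have hval : (ζ : G → ℂ) z = c * n := by
    rw [← hρχ, Representation.character, hc', map_smul, LinearMap.trace_id, Module.finrank_fin_fun,
      smul_eq_mul]
  have hcc : c * c = 1 := by
    have e : (ζ : G → ℂ) (z * z) = c * c * n := by
      rw [← hρχ, Representation.character, map_mul, hc', ← Module.End.one_eq_id, smul_mul_smul_comm,
        one_mul, map_smul, LinearMap.trace_one, Module.finrank_fin_fun, smul_eq_mul]
    rw [hzz, hn] at e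
    exact mul_right_cancel₀ hn0 (e.symm.trans (one_mul _).symm)
  obtain ⟨j, hj⟩ := hodd
  rw [hnd] at hj
  rw [hj, pow_succ, pow_mul, pow_two, hcc, one_pow, one_mul] at hcn
  exact hz1 (hfaith z (by rw [hval, hn, hcn, one_mul]))

/-- The sum attached to `u`, `s` and a central character. -/
noncomputable def Phi (u s : G) (ψ₀ : IrrCharacter G) : ℂ :=
  ∑ ψ ∈ overC ψ₀,
    conj ((ψ : G → ℂ) u) * (Complex.normSq ((ψ : G → ℂ) s) : ℂ) / (ψ : G → ℂ) 1

set_option maxHeartbeats 800000 in
/-- The sum does not depend on the central character. -/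
theorem Phi_eq {p : ℕ} [hp : Fact p.Prime] (hp2 : p ≠ 2)
    (hZ : ¬ p ∣ Nat.card (Subgroup.center G))
    (ζ : IrrCharacter G) (hfaith : ∀ g : G, (ζ : G → ℂ) g = (ζ : G → ℂ) 1 → g = 1)
    (hodd : Odd (charDegree (ζ : G → ℂ))) {u s : G} (hu : orderOf u = p)
    (hs : s * s ∈ Subgroup.center G) (ψ₀ ψ₁ : IrrCharacter G) : Phi u s ψ₀ = Phi u s ψ₁ := by
  classical
  letI := Fintype.ofFinite (Subgroup.center G)
  set F : IrrCharacter G → ℂ := fun ψ =>
    conj ((ψ : G → ℂ) u) * (Complex.normSq ((ψ : G → ℂ) s) : ℂ) / (ψ : G → ℂ) 1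
  set S : Subgroup.center G → ℂ := fun z => ∑ ψ : IrrCharacter G, conj (omega ψ z : ℂ) * F ψ
  have hS : ∀ z, z ≠ 1 → S z = 0 := by
    intro z hz
    have hcl := Cube.class_formula (u * (z : G) * (s * s)) s
    have hempty : Nat.card {g : G // IsConj (u * (z : G) * (s * s)) (s * (g * s * g⁻¹))} = 0 := by
      rw [Nat.card_eq_zero]
      refine Or.inl ⟨fun ⟨g, hg⟩ => not_conj hp2 hZ ζ hfaith hodd hu hs z.2
        (fun e => hz (Subtype.ext e)) (g := g) ?_⟩
      obtain ⟨k, hk⟩ := isConj_iff.1 hg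
      refine isConj_iff.2 ⟨k, ?_⟩
      have hss := Subgroup.mem_center_iff.1 (inv_mem hs)
      calc k * (u * (z : G)) * k⁻¹
          = k * (u * (z : G) * (s * s)) * ((s * s)⁻¹ * k⁻¹) := by group
        _ = k * (u * (z : G) * (s * s)) * k⁻¹ * (s * s)⁻¹ := by rw [← hss k⁻¹]; group
        _ = s * (g * s) * (g⁻¹ * (s * s)⁻¹) := by rw [hk]; group
        _ = s * (g * s⁻¹ * g⁻¹) := by rw [hss g⁻¹]; group
    rw [hempty, Nat.cast_zero, mul_zero, eq_comm, mul_eq_zero] at hcl
    rw [← hcl.resolve_left (Nat.cast_ne_zero.2 Nat.card_pos.ne')]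
    refine Finset.sum_congr rfl fun ψ _ => ?_
    set q : Subgroup.center G := ⟨s * s, hs⟩
    have hs1 : (ψ : G → ℂ) s = (omega ψ q : ℂ) * conj ((ψ : G → ℂ) s) := by
      rw [← IsIrr.apply_inv ψ.2, ← omega_spec]
      refine congrArg (ψ : G → ℂ) ?_
      show s = s * s * s⁻¹
      group
    have hval : (ψ : G → ℂ) (u * (z : G) * (s * s)) =
        (omega ψ q : ℂ) * ((omega ψ z : ℂ) * (ψ : G → ℂ) u) := by
      rw [show s * s = (q : G) from rfl, omega_right, omega_right]
    have hcc := omega_conj_mul ψ q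
    simp only [F]
    rw [hval, ← Complex.mul_conj, map_mul, map_mul]
    conv_rhs => arg 1; arg 2; rw [hs1]
    linear_combination (conj (omega ψ z : ℂ) * conj ((ψ : G → ℂ) u) * (ψ : G → ℂ) s *
      conj ((ψ : G → ℂ) s) / (ψ : G → ℂ) 1) * hcc.symm
  have h : ∀ ψ : IrrCharacter G, (Nat.card (Subgroup.center G) : ℂ) * Phi u s ψ = S 1 := by
    intro ψ
    unfold Phi
    refine Eq.trans (average ψ F).symm ?_
    rw [Finset.sum_eq_single (1 : Subgroup.center G)]
    · rw [map_one, Units.val_one, one_mul]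
    · intro z _ hz
      show (omega ψ z : ℂ) * S z = 0
      rw [hS z hz, mul_zero]
    · exact fun h => absurd (Finset.mem_univ _) h
  exact mul_left_cancel₀ (Nat.cast_ne_zero.2 Nat.card_pos.ne') ((h ψ₀).trans (h ψ₁).symm)

end Cfsg.Agent.Block.PMinusTwo
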