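import Mathlib
import Cfsg.Agent.Lib.Block.PMinusTwo.Central
import Cfsg.Agent.Lib.Block.Orth
import Cfsg.Agent.Lib.Char.SmallDegreeGroup

/-!
A Sylow subgroup `⟨u⟩` of order `p` with centralizer `⟨u⟩ × Z(G)` and inverted by an element whose
square is central.
-/

set_option autoImplicit false

namespace Cfsg.Agent.Block.PMinusTwo

open Cfsg Cfsg.Agent.Block

universe u

variable {G : Type u} [Group G] [Fintype G]

/-- The local situation. -/
structure Loc (p : ℕ) (u s : G) : Prop where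
  hu : orderOf u = p
  hsyl : ¬ p ∣ (Subgroup.zpowers u).index
  zreg : ¬ p ∣ Nat.card (Subgroup.center G)
  cent : ∀ g : G, g * u = u * g → ∃ (i : ℕ) (z : G), z ∈ Subgroup.center G ∧ g = u ^ i * z
  inv : s * u * s⁻¹ = u⁻¹
  ssq : s * s ∈ Subgroup.center G
  norm : ∀ g ∈ Subgroup.normalizer (Subgroup.zpowers u : Set G),
    g * u * g⁻¹ = u ∨ g * u * g⁻¹ = u⁻¹

namespace Loc

variable {p : ℕ} [hp : Fact p.Prime] {u s : G} (L : Loc p u s)
include L

omit [Fintype G] in
theorem u_ne : u ≠ 1 := fun e => by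
  have := L.hu
  rw [e, orderOf_one] at this
  exact hp.out.ne_one this.symm

theorem z_eq_one {z : G} (hz : z ∈ Subgroup.center G) (h : z ^ p = 1) : z = 1 := by
  rcases (Nat.dvd_prime hp.out).1 (orderOf_dvd_of_pow_eq_one h) with h3 | h3
  · exact orderOf_eq_one_iff.1 h3
  · exact absurd (h3 ▸ Subgroup.orderOf_dvd_natCard _ hz) L.zreg

/-- Every element of order `p` is conjugate to a power of `u`. -/
theorem exists_conj {g : G} (hg : orderOf g = p) :
    ∃ (k : G) (i : ℕ), g = k * u ^ i * k⁻¹ := by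
  classical
  have hP : Nat.card (Subgroup.zpowers u) = p := by rw [Nat.card_zpowers, L.hu]
  have hPg : IsPGroup p (Subgroup.zpowers u) := IsPGroup.of_card (n := 1) (by rw [hP, pow_one])
  let S : Sylow p G := IsPGroup.toSylow (P := Subgroup.zpowers u) hPg L.hsyl
  obtain ⟨S', hS'⟩ := (IsPGroup.of_card (n := 1) (by rw [Nat.card_zpowers, hg, pow_one]) :
    IsPGroup p (Subgroup.zpowers g)).exists_le_sylow
  obtain ⟨k, hk⟩ := MulAction.exists_smul_eq G S S'
  have hmem : g ∈ ((k • S : Sylow p G) : Subgroup G) := hk ▸ hS' (Subgroup.mem_zpowers g)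
  obtain ⟨w, hw, hwg⟩ := hmem
  obtain ⟨i, hi⟩ := mem_powers_iff_mem_zpowers.2 (show w ∈ Subgroup.zpowers u from hw)
  exact ⟨k, i, by simp only at hi; rw [hi, ← hwg]; rfl⟩

theorem cent_pow {g : G} {i : ℕ} (hi : ¬ p ∣ i) (h : g * u ^ i = u ^ i * g) : g * u = u * g := by
  obtain ⟨j, hj⟩ : u ∈ Submonoid.powers (u ^ i) := by
    refine mem_powers_iff_mem_zpowers.2 ?_
    have hP : Nat.card (Subgroup.zpowers u) = p := by rw [Nat.card_zpowers, L.hu]
    rw [Char.DefectOne.mem_zpowers_of_prime (P := Subgroup.zpowers u) hP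
      (Subgroup.npow_mem_zpowers u i) fun e => hi (L.hu ▸ orderOf_dvd_of_pow_eq_one e)]
    exact Subgroup.mem_zpowers u
  simp only at hj
  have := (show Commute g (u ^ i) from h).pow_right j
  rw [hj] at this
  exact this

theorem commute_iff {g : G} :
    g * u = u * g ↔ ∃ (i : ℕ) (z : G), z ∈ Subgroup.center G ∧ g = u ^ i * z := by
  refine ⟨L.cent g, ?_⟩
  rintro ⟨i, z, hz, rfl⟩
  rw [mul_assoc, ← Subgroup.mem_center_iff.1 hz u, ← mul_assoc, ← mul_assoc,
    (Commute.pow_self u i).eq]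

/-- The situation at another element of order `p`. -/
theorem of_ord {g : G} (hg : orderOf g = p) : ∃ s', Loc p g s' := by
  obtain ⟨k, i, rfl⟩ := L.exists_conj hg
  have hi : ¬ p ∣ i := fun ⟨j, hj⟩ => by
    rw [hj, pow_mul, ← L.hu, pow_orderOf_eq_one, one_pow, mul_one, mul_inv_cancel, orderOf_one] at hg
    exact L.u_ne (orderOf_eq_one_iff.1 hg.symm)
  set v := k * u ^ i * k⁻¹ with hv
  have hzP : Subgroup.zpowers (u ^ i) = Subgroup.zpowers u := by
    have hP : Nat.card (Subgroup.zpowers u) = p := by rw [Nat.card_zpowers, L.hu]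
    exact Char.DefectOne.mem_zpowers_of_prime (P := Subgroup.zpowers u) hP
      (Subgroup.npow_mem_zpowers u i) fun e => hi (L.hu ▸ orderOf_dvd_of_pow_eq_one e)
  have hmem : ∀ x : G, x ∈ Subgroup.zpowers v ↔ k⁻¹ * x * k ∈ Subgroup.zpowers u := by
    intro x
    rw [← hzP]
    constructor
    · rintro ⟨j, rfl⟩
      exact ⟨j, by simp only [hv]; rw [conj_zpow]; group⟩
    · rintro ⟨j, hj⟩
      refine ⟨j, ?_⟩
      simp only at hj ⊢
      rw [hv, conj_zpow, hj]; group
  refine ⟨k * s * k⁻¹, hg, ?_, L.zreg, fun x hx => ?_, ?_, ?_, fun x hx => ?_⟩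
  · intro hd
    have h1 := L.hsyl
    have e1 := (Subgroup.zpowers v).card_mul_index
    rw [← (Subgroup.zpowers u).card_mul_index, Nat.card_zpowers, Nat.card_zpowers, hg, L.hu] at e1
    exact h1 (Nat.eq_of_mul_eq_mul_left hp.out.pos e1 ▸ hd)
  · have h1 : (k⁻¹ * x * k) * u = u * (k⁻¹ * x * k) := L.cent_pow hi (by
      calc (k⁻¹ * x * k) * u ^ i = k⁻¹ * (x * v) * k := by rw [hv]; group
        _ = k⁻¹ * (v * x) * k := by rw [hx]
        _ = u ^ i * (k⁻¹ * x * k) := by rw [hv]; group)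
    obtain ⟨j, z, hz, hj⟩ := L.cent _ h1
    have hmem' : k * u ^ j * k⁻¹ ∈ Subgroup.zpowers v := by
      rw [hmem, show k⁻¹ * (k * u ^ j * k⁻¹) * k = u ^ j by group]
      exact Subgroup.npow_mem_zpowers u j
    obtain ⟨a, ha⟩ := mem_powers_iff_mem_zpowers.2 hmem'
    refine ⟨a, z, hz, ?_⟩
    simp only at ha
    rw [ha]
    calc x = k * (k⁻¹ * x * k) * k⁻¹ := by group
      _ = _ := by rw [hj, mul_assoc k, mul_assoc (u ^ j), ← Subgroup.mem_center_iff.1 hz k⁻¹]; group
  · calc k * s * k⁻¹ * v * (k * s * k⁻¹)⁻¹ = k * (s * u * s⁻¹) ^ i * k⁻¹ := by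
          rw [hv, conj_pow]; group
      _ = v⁻¹ := by rw [L.inv, hv, inv_pow]; group
  · rw [show k * s * k⁻¹ * (k * s * k⁻¹) = k * (s * s) * k⁻¹ by group,
      Subgroup.mem_center_iff.1 L.ssq k, mul_inv_cancel_right]
    exact L.ssq
  · have hy : k⁻¹ * x * k ∈ Subgroup.normalizer (Subgroup.zpowers u : Set G) := by
      rw [Subgroup.mem_normalizer_iff]
      intro w
      have e1 := (Subgroup.mem_normalizer_iff.1 hx (k * w * k⁻¹))
      rw [hmem, hmem] at e1
      simpa [mul_assoc] using e1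
    set y := k⁻¹ * x * k with hydef
    have hxy : x * v * x⁻¹ = k * (y * u * y⁻¹) ^ i * k⁻¹ := by rw [hv, conj_pow, hydef]; group
    rcases L.norm y hy with h1 | h1
    · exact Or.inl (by rw [hxy, h1])
    · exact Or.inr (by rw [hxy, h1, hv, inv_pow]; group)

theorem card_centralizer :
    Nat.card (Subgroup.centralizer ({u} : Set G)) = p * Nat.card (Subgroup.center G) := by
  have hP : Nat.card (Subgroup.zpowers u) = p := by rw [Nat.card_zpowers, L.hu]
  rw [← hP, ← Nat.card_prod]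
  refine (Nat.card_congr (Equiv.ofBijective (fun q : Subgroup.zpowers u × Subgroup.center G =>
    (⟨(q.1 : G) * q.2, ?_⟩ : Subgroup.centralizer ({u} : Set G))) ⟨?_, ?_⟩)).symm
  · rw [Subgroup.mem_centralizer_singleton_iff]
    obtain ⟨i, hi⟩ := mem_powers_iff_mem_zpowers.2 q.1.2
    exact L.commute_iff.2 ⟨i, q.2, q.2.2, by simp only at hi; rw [hi]⟩
  · rintro ⟨a, z⟩ ⟨b, w⟩ h
    have h' : (a : G) * z = b * w := congrArg Subtype.val h
    have hab : (b : G)⁻¹ * a = w * (z : G)⁻¹ := by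
      rw [eq_mul_inv_iff_mul_eq, mul_assoc, h', inv_mul_cancel_left]
    have h1 : (b : G)⁻¹ * a = 1 := L.z_eq_one (hab ▸ mul_mem w.2 (inv_mem z.2)) (by
      have h2 := Subgroup.orderOf_dvd_natCard (Subgroup.zpowers u) (mul_mem (inv_mem b.2) a.2)
      rw [hP] at h2
      exact orderOf_dvd_iff_pow_eq_one.1 h2)
    obtain rfl : a = b := Subtype.ext (inv_mul_eq_one.1 h1).symm
    exact Prod.ext rfl (Subtype.ext (mul_left_cancel h'))
  · rintro ⟨g, hg⟩
    obtain ⟨i, z, hz, e⟩ := L.cent g (Subgroup.mem_centralizer_singleton_iff.1 hg)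
    exact ⟨(⟨u ^ i, Subgroup.npow_mem_zpowers u i⟩, ⟨z, hz⟩), Subtype.ext e.symm⟩

theorem center_of_conj {z : G} (hz : z ∈ Subgroup.center G) (h : IsConj u (z * u)) : z = 1 := by
  obtain ⟨k, hk⟩ := isConj_iff.1 h
  refine L.z_eq_one hz ?_
  have h1 : (z * u) ^ p = 1 := by
    rw [← hk, conj_pow, ← L.hu, pow_orderOf_eq_one, mul_one, mul_inv_cancel]
  rwa [(show Commute z u from (Subgroup.mem_center_iff.1 hz u).symm).mul_pow, ← L.hu,
    pow_orderOf_eq_one, mul_one, L.hu] at h1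

theorem s_reg : ¬ p ∣ orderOf s ∨ p = 2 := by
  by_cases hp2 : p = 2
  · exact Or.inr hp2
  refine Or.inl fun hd => ?_
  have h1 : orderOf s ∣ 2 * Nat.card (Subgroup.center G) := by
    rw [orderOf_dvd_iff_pow_eq_one, pow_mul, pow_two, ← orderOf_dvd_iff_pow_eq_one]
    exact Subgroup.orderOf_dvd_natCard _ L.ssq
  rcases hp.out.dvd_mul.1 (hd.trans h1) with h2 | h2
  · exact hp2 ((Nat.prime_dvd_prime_iff_eq hp.out Nat.prime_two).1 h2)
  · exact L.zreg h2

/-- A `p`-singular element. -/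
theorem singular {g : G} (hg : p ∣ orderOf g) :
    ∃ (v z : G), orderOf v = p ∧ z ∈ Subgroup.center G ∧ g = v * z := by
  set n := orderOf g with hn
  obtain ⟨m, hm⟩ := hg
  have hm0 : 0 < n := orderOf_pos g
  have hw : orderOf (g ^ m) = p := by
    rw [orderOf_pow, ← hn, hm, Nat.gcd_mul_left_left, Nat.mul_div_cancel]
    exact Nat.pos_of_ne_zero fun e => by rw [e, mul_zero] at hm; omega
  obtain ⟨s', L'⟩ := L.of_ord hw
  obtain ⟨i, z, hz, e⟩ := L'.cent g ((Commute.refl g).pow_right m).eq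
  refine ⟨(g ^ m) ^ i, z, ?_, hz, e⟩
  have hi : ¬ p ∣ i := fun ⟨j, hj⟩ => by
    rw [hj, pow_mul, ← hw, pow_orderOf_eq_one, one_pow, one_mul] at e
    have := Subgroup.orderOf_dvd_natCard (Subgroup.center G) hz
    rw [← e, ← hn, hm] at this
    exact L.zreg ((dvd_mul_right p m).trans this)
  rw [Nat.Coprime.orderOf_pow, hw]
  rw [hw]
  exact hp.out.coprime_iff_not_dvd.2 hi

end Loc

end Cfsg.Agent.Block.PMinusTwo
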