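import Mathlib
import Cfsg.Agent.Lib.Block.PMinusTwo.Loc
import Cfsg.Agent.Lib.Char.SmallDegreeShape
import Cfsg.Agent.Lib.Char.DefectOneSetup
import Cfsg.Agent.Lib.Char.ModP

/-!
A faithful irreducible character of degree `p - 2`: the centralizer of a Sylow subgroup of order `p`
is `P × Z(G)` and the normalizer induces a group of order two on it.
-/

set_option autoImplicit false

namespace Cfsg.Agent.Block.PMinusTwo

open scoped ComplexConjugate
open Cfsg Cfsg.Agent.Block Cfsg.Agent.Char Cfsg.Agent.Char.BP Cfsg.Agent.Char.Spec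
  Cfsg.Agent.Char.DefectOne Cfsg.Agent.Char.SmallDeg

set_option linter.unusedSectionVars false
set_option linter.style.haveILetI false
set_option maxHeartbeats 1600000

universe u

variable {G : Type u} [Group G] [Fintype G] {p : ℕ} [hp : Fact p.Prime] {P : Subgroup G} {u₀ : G}

/-- The action of the normalizer on the exponents. -/
theorem exists_act (hPp : Nat.card P = p) (hu₀ : u₀ ∈ P) (hu₁ : u₀ ≠ 1) :
    ∃ φ : Subgroup.normalizer (P : Set G) →* (ZMod p)ˣ,
      (∀ g : Subgroup.normalizer (P : Set G), (g : G) * u₀ * (g : G)⁻¹ = pw u₀ (φ g : ZMod p)) ∧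
      φ.ker = (CG P).subgroupOf (Subgroup.normalizer (P : Set G)) ∧
      Nat.card φ.range = (CG P).relIndex (Subgroup.normalizer (P : Set G)) := by
  classical
  set N := Subgroup.normalizer (P : Set G)
  have hex : ∀ x : N, ∃ r : (ZMod p)ˣ, (x : G) * u₀ * (x : G)⁻¹ = pw u₀ (r : ZMod p) := by
    intro x
    obtain ⟨i, hi⟩ := exists_pw hPp hu₀ hu₁ ((Subgroup.mem_normalizer_iff.1 x.2 u₀).1 hu₀)
    have hi0 : i ≠ 0 := fun h => hu₁ (by
      rw [h] at hi
      simpa [pw] using hi.symm)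
    exact ⟨Units.mk0 i hi0, hi.symm⟩
  choose φ₀ hφ₀ using hex
  let φ : N →* (ZMod p)ˣ :=
    MonoidHom.mk' φ₀ fun x y => Units.ext (pw_inj hPp hu₀ hu₁ (by
      rw [← hφ₀ (x * y), Units.val_mul, ← conj_pw hPp hu₀ hu₁ (hφ₀ x), ← hφ₀ y, Subgroup.coe_mul]
      group))
  have hker : φ.ker = (CG P).subgroupOf N := by
    ext x
    rw [MonoidHom.mem_ker, Subgroup.mem_subgroupOf]
    constructor
    · intro h
      refine Subgroup.mem_centralizer_iff.2 fun v hv => ?_
      obtain ⟨i, rfl⟩ := exists_pw hPp hu₀ hu₁ hv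
      have h1 := conj_pw hPp hu₀ hu₁ (hφ₀ x) i
      rw [show φ₀ x = 1 from h, Units.val_one, one_mul, mul_inv_eq_iff_eq_mul] at h1
      exact h1.symm
    · intro h
      refine Units.ext (pw_inj hPp hu₀ hu₁ ?_)
      show pw u₀ (φ₀ x : ZMod p) = pw u₀ ((1 : (ZMod p)ˣ) : ZMod p)
      rw [← hφ₀ x, Units.val_one, pw_one hPp hu₀ hu₁, ← Subgroup.mem_centralizer_iff.1 h u₀ hu₀,
        mul_inv_cancel_right]
  refine ⟨φ, hφ₀, hker, ?_⟩
  rw [← Subgroup.index_ker, hker]
  rfl

theorem exists_loc (hp7 : 7 ≤ p) (S : Sylow p G) (hS : Nat.card S = p)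
    (hnn : ¬ (S : Subgroup G).Normal) (ζ : IrrCharacter G)
    (hfaith : ∀ g : G, (ζ : G → ℂ) g = (ζ : G → ℂ) 1 → g = 1)
    (hdeg : charDegree (ζ : G → ℂ) + 2 = p) : ∃ u s : G, Loc p u s := by
  classical
  obtain ⟨M, hM⟩ := exists_isPModular p hp.out
  set B := blockOf M (ζ : G → ℂ) with hBdef
  have hB : IsPBlock M B := isPBlock_blockOf ζ
  have hζB : ζ ∈ B := mem_blockOf_self hM ζ
  have hfac : (Nat.card G).factorization p = 1 := by
    rw [← (S : Subgroup G).card_mul_index, hS, Nat.factorization_mul hp.out.ne_zero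
      Subgroup.index_ne_zero_of_finite, Finsupp.add_apply, hp.out.factorization_self,
      Nat.factorization_eq_zero_of_not_dvd S.not_dvd_index]
  have hd : blockDefect p B ≠ 0 := by
    intro h
    have h1 := (blockDefect_zero_iff_full hM hB).1 h ζ hζB
    rw [hfac, Nat.factorization_eq_zero_of_not_dvd fun hd => ?_] at h1
    · omega
    · have := Nat.le_of_dvd (by omega) hd
      omega
  obtain ⟨P, b, θ, T, u₀, hPp, hsyl, hθ, hθP, haB, hT, hu₀, hu₁⟩ := exists_setup hM hB hd hfac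
  obtain ⟨R, X, y, c, ε, hD⟩ := exists_data hM hPp hsyl hθ hθP hB haB hd hT hu₀ hu₁
  set N := Subgroup.normalizer (P : Set G) with hN
  letI : Fintype (N ⧸ T.subgroupOf N) := Fintype.ofFinite _
  letI : Fintype (CG P) := Fintype.ofFinite _
  -- the subgroup is not normal
  have hPg : IsPGroup p P := IsPGroup.of_card (n := 1) (by rw [hPp, pow_one])
  have hPn : ¬ P.Normal := by
    intro hn
    let S' : Sylow p G := IsPGroup.toSylow hPg hsyl
    haveI : Unique (Sylow p G) := Sylow.unique_of_normal S' hn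
    exact hnn (Subsingleton.elim S' S ▸ hn)
  have hPC : P ≤ CG P := le_cg hPp
  have hPcen : ¬ P ≤ Subgroup.center G := fun hle => hPn ⟨fun a ha g => by
    rwa [Subgroup.mem_center_iff.1 (hle ha) g, mul_inv_cancel_right]⟩
  have hzpow : Subgroup.zpowers u₀ = P := mem_zpowers_of_prime hPp hu₀ hu₁
  have hord : orderOf u₀ = p := orderOf_gen hPp hu₀ hu₁
  have hzreg : ¬ p ∣ Nat.card (Subgroup.center G) := by
    intro hdv
    obtain ⟨w, hw⟩ := exists_prime_orderOf_dvd_card' p hdv
    refine hPcen ?_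
    rw [← SmallDeg.eq_of_le_normalizer hPp hsyl (Q := Subgroup.zpowers (w : G))
      (by rw [Nat.card_zpowers, Subgroup.orderOf_coe, hw])
      (Subgroup.zpowers_le.2 (Subgroup.center_le_normalizer _ w.2))]
    exact Subgroup.zpowers_le.2 w.2
  obtain ⟨φ, hφ, hφker, hφcard⟩ := exists_act hPp hu₀ hu₁
  set f := (CG P).relIndex N with hfdef
  have hfdvd : f ∣ p - 1 := by
    rw [← hφcard, ← ZMod.card_units p, ← Nat.card_eq_fintype_card]
    exact Subgroup.card_subgroup_dvd_card _
  have hfpos : 0 < f := Nat.pos_of_dvd_of_pos hfdvd (by omega)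
  -- the restriction to the centralizer
  obtain ⟨a, -, hdec⟩ := IsChar.exists_decomp_inner (IsChar.res (IsIrr.isCharacter ζ.2) (CG P))
  set z : CG P := ⟨u₀, hPC hu₀⟩ with hzdef
  have hzc : z ∈ Subgroup.center (CG P) := Subgroup.mem_center_iff.mpr fun t =>
    Subtype.ext (Subgroup.mem_centralizer_iff.1 t.2 u₀ hu₀).symm
  have hpow : ∀ (ξ : IrrCharacter (CG P)) (n : ℕ) (v : CG P), (ξ : CG P → ℂ) (z ^ n * v) =
      centralChar (ξ : CG P → ℂ) z ^ n * (ξ : CG P → ℂ) v := by
    intro ξ n v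
    induction n with
    | zero => simp
    | succ n ih => rw [pow_succ', mul_assoc, centralChar_of_center hzc, ih, pow_succ', mul_assoc]
  have hzp : z ^ p = 1 := Subtype.ext (by
    simp only [z, SubmonoidClass.coe_pow, OneMemClass.coe_one]
    rw [← hord, pow_orderOf_eq_one])
  choose j hj using fun ξ : IrrCharacter (CG P) => exists_ψc (p := p)
    (z := centralChar (ξ : CG P → ℂ) z) (by
      refine mul_right_cancel₀ (IsIrr.one_ne_zero ξ.2) ?_
      rw [← hpow ξ p 1, hzp, one_mul, one_mul])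
  let Gv : CG P → ZMod p → ℂ := fun v l =>
    ∑ ξ ∈ Finset.univ.filter (fun ξ => j ξ = l), (a ξ : ℂ) * (ξ : CG P → ℂ) v
  let m : ZMod p → ℕ := fun l =>
    ∑ ξ ∈ Finset.univ.filter (fun ξ => j ξ = l), a ξ * charDegree (ξ : CG P → ℂ)
  have hGv1 : ∀ l, Gv 1 l = (m l : ℂ) := fun l => by
    simp only [Gv, m, Nat.cast_sum, Nat.cast_mul, charDeg_spec']
  have hexp : ∀ (v : CG P) (i : ZMod p),
      (ζ : G → ℂ) (pw u₀ i * (v : G)) = ∑ l, Gv v l * ψc (i * l) := by
    intro v i
    have h := congrFun hdec (z ^ i.val * v)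
    rw [sum_irr_apply] at h
    rw [show pw u₀ i * (v : G) = ((z ^ i.val * v : CG P) : G) by simp [pw, z]]
    refine h.trans ?_
    rw [← Finset.sum_fiberwise Finset.univ j]
    refine Finset.sum_congr rfl fun l _ => ?_
    simp only [Gv, Finset.sum_mul]
    refine Finset.sum_congr rfl fun ξ hξ => ?_
    rw [hpow, hj, (Finset.mem_filter.1 hξ).2, ← AddChar.map_nsmul_eq_pow, nsmul_eq_mul,
      ZMod.natCast_zmod_val]
    ring
  have hpw0 : pw u₀ (0 : ZMod p) = 1 := by simp [pw]
  set d := charDegree (ζ : G → ℂ) with hddef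
  have hsum : ∑ l, m l = d := by
    have h := hexp 1 0
    rw [hpw0, OneMemClass.coe_one, mul_one, charDeg_spec'] at h
    simp only [hGv1, zero_mul, AddChar.map_zero_eq_one, mul_one, ← Nat.cast_sum] at h
    exact (Nat.cast_injective h).symm
  have hkill : ¬ ∀ l, l ≠ 0 → m l = 0 := by
    intro h
    refine hu₁ (hfaith u₀ ?_)
    rw [← pw_one hPp hu₀ hu₁, ← hpw0, ← mul_one (pw u₀ (1 : ZMod p)), ← mul_one (pw u₀ (0 : ZMod p)),
      ← OneMemClass.coe_one (CG P), hexp, hexp]
    refine Finset.sum_congr rfl fun l _ => ?_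
    by_cases hl : l = 0
    · simp [hl]
    · simp [hGv1, h l hl]
  have hbig : ¬ ∀ l, l ≠ 0 → 1 ≤ m l := by
    intro h
    have h1 : ∑ _l ∈ Finset.univ.erase (0 : ZMod p), 1 ≤ d := by
      rw [← hsum]
      exact (Finset.sum_le_sum fun l hl => h l (Finset.ne_of_mem_erase hl)).trans
        (Finset.sum_le_sum_of_subset (Finset.erase_subset _ _))
    rw [Finset.sum_const, smul_eq_mul, mul_one, Finset.card_erase_of_mem (Finset.mem_univ _),
      Finset.card_univ, ZMod.card] at h1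
    omega
  have h1r : ¬ p ∣ orderOf (1 : CG P) := by rw [orderOf_one]; exact hp.out.not_dvd_one
  set θd := charDegree (θ : CG P → ℂ) with hθd
  have hθpos : 0 < θd := charDeg_pos θ
  -- not a constant row
  rcases (hD.mem_iff ζ).1 hζB with hX | ⟨q, hq⟩
  · exfalso
    set K : ℂ := -(c ζ : ℂ) * ∑ w : N ⧸ T.subgroupOf N,
      extendByZero (CG P) (θ : CG P → ℂ) ((w.out : G)⁻¹ * ((1 : CG P) : G) * w.out)
    have hconst : ∀ l, (m l : ℂ) - (if l = 0 then K else 0) =
        (m 0 : ℂ) - (if (0 : ZMod p) = 0 then K else 0) := fun l => by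
      refine diff_eq (f := fun l => (m l : ℂ)) (g := fun l => if l = 0 then K else 0) (fun i hi => ?_) l
      simp only [← hGv1]
      rw [← hexp, value_X hM hPp hsyl hθ hθP haB hT hu₀ hu₁ hD hN hX (pw_mem hPp hu₀ hu₁ i)
          (pw_ne_one hPp hu₀ hu₁ hi) h1r]
      simp only [ite_mul, zero_mul, Finset.sum_ite_eq', Finset.mem_univ, if_true, mul_zero,
        AddChar.map_zero_eq_one, mul_one]
      rfl
    have heq : ∀ l l' : ZMod p, l ≠ 0 → l' ≠ 0 → m l = m l' := fun l l' hl hl' => by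
      have h1 := hconst l
      have h2 := hconst l'
      rw [if_neg hl, sub_zero] at h1
      rw [if_neg hl', sub_zero] at h2
      exact Nat.cast_injective (R := ℂ) (h1.trans h2.symm)
    by_cases h1 : m 1 = 0
    · exact hkill fun l hl => (heq l 1 hl one_ne_zero).trans h1
    · exact hbig fun l hl => by rw [heq l 1 hl one_ne_zero]; omega
  obtain ⟨r, hr⟩ := exists_multiplier hPp hu₀ hu₁ hN T
  set J := (Finset.univ : Finset (N ⧸ T.subgroupOf N)) ×ˢ
    (Finset.univ.filter fun j : (ZMod p)ˣ => (j : (ZMod p)ˣ ⧸ R) = q) with hJ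
  set ι : (N ⧸ T.subgroupOf N) × (ZMod p)ˣ → ZMod p := fun a => ((r a.1 * a.2 : (ZMod p)ˣ) : ZMod p)
  have hinj : Set.InjOn ι J := by
    rintro ⟨w, j⟩ ha ⟨w', k⟩ hb h
    obtain ⟨-, hj⟩ := Finset.mem_product.1 (Finset.mem_coe.1 ha)
    obtain ⟨-, hk⟩ := Finset.mem_product.1 (Finset.mem_coe.1 hb)
    obtain ⟨h1, h2⟩ := exponents_inj hPp hu₀ hu₁ hθ hT hD.mem_R hN hr (Finset.mem_filter.1 hj).2
      (Finset.mem_filter.1 hk).2 (Units.ext h)
    exact Prod.ext h1 h2
  have hcoset : (Finset.univ.filter fun j : (ZMod p)ˣ => (j : (ZMod p)ˣ ⧸ R) = q).card =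
      Nat.card R := by
    rw [Nat.card_eq_fintype_card, ← Finset.card_univ]
    symm
    refine Finset.card_bij (fun (r : R) _ => q.out * (r : (ZMod p)ˣ)) (fun r _ => ?_)
      (fun r _ r' _ h => Subtype.ext (mul_left_cancel h)) fun j hj => ?_
    · refine Finset.mem_filter.2 ⟨Finset.mem_univ _, ?_⟩
      rw [QuotientGroup.mk_mul_of_mem _ r.2, QuotientGroup.out_eq']
    · refine ⟨⟨q.out⁻¹ * j, ?_⟩, Finset.mem_univ _, mul_inv_cancel_left _ _⟩
      rw [← QuotientGroup.eq, QuotientGroup.out_eq', (Finset.mem_filter.1 hj).2]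
  set O := J.image ι with hOdef
  have hOcard : O.card = f := by
    rw [Finset.card_image_of_injOn hinj, Finset.card_product, Finset.card_univ,
      ← Nat.card_eq_fintype_card, hcoset, hD.card_R, hfdef,
      ← Subgroup.relIndex_mul_relIndex _ T _ (DefectOne.cg_le_T hθ hT) (fun g hg => ((hT g).1 hg).1),
      mul_comm]
    rfl
  have hO0 : (0 : ZMod p) ∉ O := fun h => by
    obtain ⟨a, -, ha⟩ := Finset.mem_image.1 h
    exact (r a.1 * a.2).ne_zero ha
  let Yv : CG P → ZMod p → ℂ := fun v l => (ε : ℂ) * ∑ a ∈ J.filter (fun a => ι a = l),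
    extendByZero (CG P) (θ : CG P → ℂ) ((a.1.out : G)⁻¹ * v * a.1.out)
  have hY : ∀ (v : CG P), ¬ p ∣ orderOf v → ∀ i : ZMod p, i ≠ 0 →
      (ζ : G → ℂ) (pw u₀ i * (v : G)) = ∑ l, Yv v l * ψc (i * l) := by
    intro v hv i hi
    rw [← hq, value_Y hM hPp hsyl hθ hθP haB hT hu₀ hu₁ hD hN hr q hi hv]
    simp only [Yv, mul_assoc, Finset.sum_mul, ← Finset.mul_sum]
    congr 1
    rw [Finset.sum_congr rfl (g := fun l => ∑ a ∈ J.filter (fun a => ι a = l),
        ψc (i * ι a) * extendByZero (CG P) (θ : CG P → ℂ) ((a.1.out : G)⁻¹ * ((v : G) * a.1.out)))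
      fun l _ => Finset.sum_congr rfl fun a ha => by rw [(Finset.mem_filter.1 ha).2, mul_comm],
      Finset.sum_fiberwise, hJ, Finset.sum_product]
    refine Finset.sum_congr rfl fun w _ => ?_
    rw [cosum, Finset.sum_filter, Finset.sum_mul]
    refine Finset.sum_congr rfl fun j _ => ?_
    split
    · simp only [ι, Units.val_mul, mul_assoc]
    · rw [zero_mul]
  have hY0 : ∀ v, ∀ l ∉ O, Yv v l = 0 := by
    intro v l hl
    show (ε : ℂ) * _ = 0
    rw [Finset.filter_eq_empty_iff.2 fun a ha e => hl (Finset.mem_image.2 ⟨a, ha, e⟩),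
      Finset.sum_empty, mul_zero]
  have hY1 : ∀ l ∈ O, Yv 1 l = (ε : ℂ) * (θd : ℂ) := by
    intro l hl
    obtain ⟨a, ha, rfl⟩ := Finset.mem_image.1 hl
    show (ε : ℂ) * _ = _
    rw [show J.filter (fun b => ι b = ι a) = {a} from Finset.eq_singleton_iff_unique_mem.2
      ⟨Finset.mem_filter.2 ⟨ha, rfl⟩, fun b hb => hinj (Finset.mem_coe.2 (Finset.mem_filter.1 hb).1)
        (Finset.mem_coe.2 ha) (Finset.mem_filter.1 hb).2⟩, Finset.sum_singleton, OneMemClass.coe_one,
      mul_one, inv_mul_cancel, extendByZero_of_mem _ (one_mem _), hθd, ← charDeg_spec']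
    rfl
  have hdiffv : ∀ (v : CG P), ¬ p ∣ orderOf v → ∀ l, Gv v l - Yv v l = Gv v 0 := by
    intro v hv l
    have h := diff_eq (f := Gv v) (g := Yv v) (fun i hi => by rw [← hexp, hY v hv i hi]) l
    rwa [hY0 v 0 hO0, sub_zero] at h
  have hdiff : ∀ l, (m l : ℤ) - (if l ∈ O then ε * θd else 0) = m 0 := fun l => by
    have h := hdiffv 1 h1r l
    rw [hGv1, hGv1] at h
    apply Int.cast_injective (α := ℂ)
    push_cast
    split_ifs with hl
    · rw [hY1 l hl] at h; exact h
    · rw [hY0 1 l hl] at h; exact h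
  have hdeg' : (d : ℤ) = (p : ℤ) * m 0 + ε * θd * f := by
    have h : ∑ l, ((m l : ℤ) - (if l ∈ O then ε * θd else 0)) = ∑ _l : ZMod p, (m 0 : ℤ) :=
      Finset.sum_congr rfl fun l _ => hdiff l
    rw [Finset.sum_sub_distrib, ← Nat.cast_sum, hsum, Finset.sum_const, Finset.card_univ, ZMod.card,
      nsmul_eq_mul, Finset.sum_ite_mem, Finset.univ_inter, Finset.sum_const, hOcard,
      nsmul_eq_mul] at h
    linarith
  have hdz : (d : ℤ) + 2 = p := by exact_mod_cast hdeg
  obtain ⟨l₀, hl₀⟩ := Finset.card_pos.1 (hOcard ▸ hfpos)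
  have hψn : ∀ x : ZMod p, ‖ψc x‖ = 1 := fun x =>
    norm_eq_one_of_pow_eq_one' hp.out.pos (by
      rw [← AddChar.map_nsmul_eq_pow, nsmul_eq_mul, ZMod.natCast_self, zero_mul,
        AddChar.map_zero_eq_one])
  -- the sign
  rcases hD.ε_sign with hε | hε
  · exfalso
    rw [hε] at hdeg'
    have hm00 : m 0 = 0 := by
      by_contra h
      have : p ≤ p * m 0 := Nat.le_mul_of_pos_right p (Nat.pos_of_ne_zero h)
      have h' : (p : ℤ) ≤ p * m 0 := by exact_mod_cast this
      have h4 : (0 : ℤ) ≤ θd * f := by positivity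
      linarith
    rw [hm00] at hdeg'
    have hprod : θd * f = d := by
      have : (d : ℤ) = ((θd * f : ℕ) : ℤ) := by push_cast at hdeg' ⊢; linarith
      exact_mod_cast this.symm
    have hf1 : f = 1 := by
      have h2 := Nat.dvd_sub hfdvd (Dvd.intro_left θd hprod)
      rw [show p - 1 - d = 1 by omega] at h2
      exact Nat.dvd_one.1 h2
    rw [hf1] at hOcard
    obtain ⟨l₁, hl₁⟩ := Finset.card_eq_one.1 hOcard
    have hml : ∀ l, l ≠ l₁ → m l = 0 := fun l hl => by
      have h := hdiff l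
      rw [if_neg (by rw [hl₁, Finset.mem_singleton]; exact hl), hm00] at h
      omega
    have hmd : m l₁ = d := by
      rw [← hsum, Finset.sum_eq_single l₁ (fun l _ hl => hml l hl)
        (fun h => absurd (Finset.mem_univ _) h)]
    refine hPcen fun g hg => ?_
    have hu : u₀ ∈ Subgroup.center G := by
      refine mem_center_of_norm ζ hfaith ?_
      rw [← pw_one hPp hu₀ hu₁, ← mul_one (pw u₀ (1 : ZMod p)), ← OneMemClass.coe_one (CG P), hexp,
        Finset.sum_eq_single l₁ (fun l _ hl => by rw [hGv1, hml l hl]; simp)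
          (fun h => absurd (Finset.mem_univ _) h), hGv1, hmd, norm_mul, hψn, mul_one,
        Complex.norm_natCast]
    rw [← hzpow] at hg
    exact Subgroup.zpowers_le.2 hu hg
  rw [hε] at hdeg'
  have hm0 : (θd : ℤ) ≤ m 0 := by
    have := hdiff l₀
    rw [if_pos hl₀, hε] at this
    omega
  have hf2 : f = 2 ∧ θd = 1 ∧ m 0 = 1 := by
    by_cases hfp : f = p - 1
    · exfalso
      have h1 : O = Finset.univ.erase 0 := Finset.eq_of_subset_of_card_le
        (fun l hl' => Finset.mem_erase.2 ⟨fun h => hO0 (h ▸ hl'), Finset.mem_univ _⟩)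
        (by rw [Finset.card_erase_of_mem (Finset.mem_univ _), Finset.card_univ, ZMod.card, hOcard, hfp])
      have hall : ∀ l, l ≠ 0 → (m l : ℤ) = m 0 - θd := fun l hl => by
        have := hdiff l
        rw [if_pos (h1 ▸ Finset.mem_erase.2 ⟨hl, Finset.mem_univ _⟩), hε] at this
        omega
      rcases eq_or_lt_of_le hm0 with he | he
      · exact hkill fun l hl => by have := hall l hl; omega
      · exact hbig fun l hl => by have := hall l hl; omega
    · obtain ⟨t, ht⟩ := hfdvd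
      have ht2 : 2 ≤ t := by
        by_contra h
        interval_cases t
        · omega
        · exact hfp (by omega)
      have h2f : 2 * f ≤ p - 1 := by rw [ht, mul_comm 2 f]; exact Nat.mul_le_mul_left f ht2
      have h2 : (2 * f : ℤ) ≤ p - 1 := by omega
      have hK : (m 0 : ℤ) ≤ 1 := by
        by_contra h
        have h5 : (θd : ℤ) * (2 * f) ≤ (m 0 : ℤ) * (p - 1) :=
          mul_le_mul hm0 h2 (by positivity) (by positivity)
        nlinarith
      have hθ1 : (θd : ℤ) = 1 := le_antisymm (hm0.trans hK) (by exact_mod_cast hθpos)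
      have hm1 : (m 0 : ℤ) = 1 := le_antisymm hK (hθ1 ▸ hm0)
      rw [hθ1, hm1] at hdeg'
      exact ⟨by omega, by omega, by omega⟩
  obtain ⟨hf2, hθ1, hm1⟩ := hf2
  -- the regular part of the centralizer is central
  have hmO : ∀ l ∈ O, m l = 0 := fun l hl => by
    have h := hdiff l
    rw [if_pos hl, hε, hθ1, hm1] at h
    omega
  have hreg : ∀ v : CG P, ¬ p ∣ orderOf v → (v : G) ∈ Subgroup.center G := by
    intro v hv
    refine mem_center_of_norm ζ hfaith ?_
    have hG0 : ∀ l, Gv v l = if l ∈ O then 0 else Gv v 0 := by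
      intro l
      split_ifs with hl
      · refine Finset.sum_eq_zero fun ξ hξ => ?_
        have := (Finset.sum_eq_zero_iff.1 (hmO l hl)) ξ hξ
        rw [(mul_eq_zero.1 this).resolve_right (charDeg_pos ξ).ne', Nat.cast_zero, zero_mul]
      · have h := hdiffv v hv l
        rwa [hY0 v l hl, sub_zero] at h
    have hn : ‖Gv v 0‖ = 1 := by
      have h1 : m 0 = 1 := hm1
      obtain ⟨ξ, hξ, hξ1⟩ : ∃ ξ ∈ Finset.univ.filter (fun ξ => j ξ = (0 : ZMod p)),
          a ξ * charDegree (ξ : CG P → ℂ) ≠ 0 :=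
        Finset.exists_ne_zero_of_sum_ne_zero (show m 0 ≠ 0 by omega)
      have h2 := Finset.add_sum_erase _ (fun ξ => a ξ * charDegree (ξ : CG P → ℂ)) hξ
      have h3 : a ξ * charDegree (ξ : CG P → ℂ) = 1 := by
        simp only [m] at h1
        omega
      have h4 : ∑ η ∈ (Finset.univ.filter (fun ξ => j ξ = (0 : ZMod p))).erase ξ,
          a η * charDegree (η : CG P → ℂ) = 0 := by
        simp only [m] at h1
        omega
      obtain ⟨ha1, hd1⟩ := mul_eq_one.1 h3
      simp only [Gv]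
      rw [← Finset.add_sum_erase _ _ hξ, Finset.sum_eq_zero fun η hη => by
        rw [(mul_eq_zero.1 (Finset.sum_eq_zero_iff.1 h4 η hη)).resolve_right (charDeg_pos η).ne',
          Nat.cast_zero, zero_mul], add_zero, ha1, Nat.cast_one, one_mul]
      obtain ⟨l, hl⟩ := linearHom_of_isCharacter (IsIrr.isCharacter ξ.2)
        (by rw [charDeg_spec', hd1, Nat.cast_one])
      have he : (ξ : CG P → ℂ) v = (l v : ℂ) := congrFun hl v
      rw [he]
      exact norm_eq_one_of_pow_eq_one' (Nat.card_pos (α := CG P))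
        (by rw [← Units.val_pow_eq_pow_val, ← map_pow, pow_card_eq_one', map_one, Units.val_one])
    have h := hexp v 0
    rw [hpw0, one_mul] at h
    rw [h]
    simp only [zero_mul, AddChar.map_zero_eq_one, mul_one]
    rw [Finset.sum_congr rfl fun l _ => hG0 l, Finset.sum_ite, Finset.sum_const_zero, zero_add,
      Finset.sum_const, nsmul_eq_mul, norm_mul, hn, mul_one, Complex.norm_natCast,
      Finset.filter_not, Finset.card_univ_diff, ZMod.card]
    simp only [Finset.filter_mem_eq_inter, Finset.univ_inter, hOcard, hf2]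
    exact_mod_cast (show p - 2 = d by omega)
  -- the inverting element
  have hidx : ((CG P).subgroupOf N).index = 2 := hf2
  obtain ⟨s, hs⟩ : ∃ s : N, s ∉ (CG P).subgroupOf N := by
    by_contra hc
    push Not at hc
    rw [(Subgroup.eq_top_iff' _).2 hc, Subgroup.index_top] at hidx
    omega
  have hneg : ∀ g : N, φ g = 1 ∨ ((φ g : (ZMod p)ˣ) : ZMod p) = -1 := by
    intro g
    have h1 : φ g ^ 2 = 1 := by
      rw [← map_pow, ← MonoidHom.mem_ker, hφker]
      exact Subgroup.sq_mem_of_index_two hidx g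
    have h2 : ((φ g : (ZMod p)ˣ) : ZMod p) ^ 2 = 1 := by
      rw [← Units.val_pow_eq_pow_val, h1, Units.val_one]
    exact (sq_eq_one_iff.1 h2).imp (fun e => Units.ext e) id
  have hminus : pw u₀ (-1 : ZMod p) = u₀⁻¹ := by
    refine eq_inv_of_mul_eq_one_left ?_
    have h := pw_natCast hPp hu₀ hu₁ (p - 1)
    rw [Nat.cast_sub (by omega), Nat.cast_one, ZMod.natCast_self, zero_sub] at h
    rw [h, ← pow_succ, Nat.sub_add_cancel (by omega), ← hord, pow_orderOf_eq_one]
  have hinv : (s : G) * u₀ * (s : G)⁻¹ = u₀⁻¹ := by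
    rw [hφ s, (hneg s).resolve_left fun e => hs (hφker ▸ MonoidHom.mem_ker.2 e), hminus]
  have hcg : ∀ g : G, g * u₀ = u₀ * g → g ∈ CG P := by
    intro g hg
    refine Subgroup.mem_centralizer_iff.2 fun v hv => ?_
    rw [← hzpow] at hv
    obtain ⟨n, rfl⟩ := Subgroup.mem_zpowers_iff.1 hv
    exact ((show Commute g u₀ from hg).zpow_right n).eq.symm
  have hcent : ∀ g : G, g * u₀ = u₀ * g →
      ∃ (i : ℕ) (w : G), w ∈ Subgroup.center G ∧ g = u₀ ^ i * w := by
    intro g hg
    obtain ⟨x, v, hxv, -, ⟨k, hk⟩, hvr, hxg, hvg⟩ := exists_pPart_zpowers (p := p) g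
    have hmem : Subgroup.zpowers g ≤ CG P := Subgroup.zpowers_le.2 (hcg g hg)
    have hvC : v ∈ Subgroup.center G :=
      hreg ⟨v, hmem hvg⟩ (by rwa [Subgroup.orderOf_mk])
    have hxP : x ∈ P := by
      by_cases hx1 : x = 1
      · exact hx1 ▸ one_mem _
      have hk1 : k = 1 := by
        have h1 : p ^ k ∣ Nat.card G := hk ▸ orderOf_dvd_natCard x
        rw [hp.out.pow_dvd_iff_le_factorization Nat.card_pos.ne', hfac] at h1
        rcases Nat.eq_zero_or_pos k with e | e
        · rw [e, pow_zero] at hk; exact absurd (orderOf_eq_one_iff.1 hk) hx1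
        · omega
      rw [← SmallDeg.eq_of_le_normalizer hPp hsyl (Q := Subgroup.zpowers x)
        (by rw [Nat.card_zpowers, hk, hk1, pow_one])
        (Subgroup.zpowers_le.2 (Subgroup.centralizer_le_normalizer _ (hmem hxg)))]
      exact Subgroup.mem_zpowers x
    rw [← hzpow] at hxP
    obtain ⟨i, hi⟩ := mem_powers_iff_mem_zpowers.2 hxP
    simp only at hi
    exact ⟨i, v, hvC, by rw [hi, hxv]⟩
  refine ⟨u₀, s, hord, hzpow.symm ▸ hsyl, hzreg, hcent, hinv, ?_, fun g hg => ?_⟩
  · have hC2 : (s : G) * s ∈ CG P := (Subgroup.mul_self_mem_of_index_two hidx s :)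
    obtain ⟨i, w, hw, e⟩ := hcent _ ((Subgroup.mem_centralizer_iff.1 hC2 u₀ hu₀).symm)
    suffices hi : u₀ ^ i = 1 by rw [e, hi, one_mul]; exact hw
    have h1 : (u₀ ^ i)⁻¹ * w = u₀ ^ i * w := by
      calc (u₀ ^ i)⁻¹ * w = ((s : G) * u₀ * (s : G)⁻¹) ^ i * w := by rw [hinv, inv_pow]
        _ = (s : G) * (u₀ ^ i * w) * (s : G)⁻¹ := by
          rw [conj_pow, mul_assoc (s : G) (u₀ ^ i * w), mul_assoc (u₀ ^ i) w,
            ← Subgroup.mem_center_iff.1 hw (s : G)⁻¹]
          group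
        _ = u₀ ^ i * w := by rw [← e]; group
    have h2 := mul_right_cancel h1
    have h3 : orderOf (u₀ ^ i) ∣ 2 := orderOf_dvd_of_pow_eq_one (by
      rw [pow_two]
      nth_rewrite 1 [← h2]
      exact inv_mul_cancel _)
    have h4 : orderOf (u₀ ^ i) ∣ p := hord ▸ orderOf_pow_dvd i
    have h5 := Nat.dvd_gcd h3 h4
    rw [(Nat.coprime_primes Nat.prime_two hp.out).2 (by omega), Nat.dvd_one] at h5
    exact orderOf_eq_one_iff.1 h5
  · have hgN : g ∈ N := by rw [hN, ← hzpow]; exact hg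
    rcases hneg ⟨g, hgN⟩ with e | e
    · left
      rw [show g * u₀ * g⁻¹ = _ from hφ ⟨g, hgN⟩, e, Units.val_one, pw_one hPp hu₀ hu₁]
    · right
      rw [show g * u₀ * g⁻¹ = _ from hφ ⟨g, hgN⟩, e, hminus]

end Cfsg.Agent.Block.PMinusTwo
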