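import Mathlib
import Cfsg.Agent.Lib.Block.PMinusTwo.Loc
import Cfsg.Agent.Lib.Char.SmallDegreeShape
import Cfsg.Agent.Lib.Char.SelfCentChars
import Cfsg.Agent.Lib.Char.DefectOneSetup
import Cfsg.Agent.Lib.Char.Average
import Cfsg.Agent.Lib.Char.ModP

/-!
The characters with a given central character not vanishing at the elements of order `p`: two
constant rows and the exceptional ones.
-/

set_option autoImplicit false

namespace Cfsg.Agent.Block.PMinusTwo

open scoped ComplexConjugate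
open Cfsg Cfsg.Agent.Block Cfsg.Agent.Char Cfsg.Agent.Char.BP Cfsg.Agent.Char.Spec
  Cfsg.Agent.Char.DefectOne Cfsg.Agent.Char.SmallDeg

set_option linter.unusedSectionVars false
set_option linter.style.haveILetI false
set_option maxHeartbeats 1600000

universe u

variable {G : Type u} [Group G] [Fintype G] {p : ℕ} [hp : Fact p.Prime]

/-- The members above a central character which do not vanish at the elements of order `p`. -/
structure Shape (p : ℕ) [Fact p.Prime] (ψ₀ a₁ a₂ : IrrCharacter G) (Y : Finset (IrrCharacter G))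
    (c₁ c₂ ε : ℤ) : Prop where
  ne : a₁ ≠ a₂
  not₁ : a₁ ∉ Y
  not₂ : a₂ ∉ Y
  Ynon : Y.Nonempty
  mem : ψ₀ = a₁ ∨ ψ₀ = a₂ ∨ ψ₀ ∈ Y
  s₁ : c₁ = 1 ∨ c₁ = -1
  s₂ : c₂ = 1 ∨ c₂ = -1
  sε : ε = 1 ∨ ε = -1
  om₁ : omega a₁ = omega ψ₀
  om₂ : omega a₂ = omega ψ₀
  omY : ∀ θ ∈ Y, omega θ = omega ψ₀
  at₁ : ∀ g : G, orderOf g = p → (a₁ : G → ℂ) g = -(c₁ : ℂ)
  at₂ : ∀ g : G, orderOf g = p → (a₂ : G → ℂ) g = -(c₂ : ℂ)
  sumY : ∀ g : G, orderOf g = p → ∑ θ ∈ Y, (θ : G → ℂ) g = -(ε : ℂ)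
  sumP : ∀ g : G, orderOf g = p → ∀ θ ∈ Y,
    ∑ i : ZMod p, (θ : G → ℂ) (pw g i) = (θ : G → ℂ) 1 - 2 * (ε : ℂ)
  vanish : ∀ ψ : IrrCharacter G, omega ψ = omega ψ₀ → ψ ≠ a₁ → ψ ≠ a₂ → ψ ∉ Y →
    ∀ g : G, orderOf g = p → (ψ : G → ℂ) g = 0
  regular : ∀ θ ∈ Y, ∀ g : G, ¬ p ∣ orderOf g →
    (c₁ : ℂ) * (a₁ : G → ℂ) g + (c₂ : ℂ) * (a₂ : G → ℂ) g + (ε : ℂ) * (θ : G → ℂ) g = 0

theorem Shape.swap {ψ₀ a₁ a₂ : IrrCharacter G} {Y : Finset (IrrCharacter G)} {c₁ c₂ ε : ℤ}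
    (H : Shape p ψ₀ a₁ a₂ Y c₁ c₂ ε) : Shape p ψ₀ a₂ a₁ Y c₂ c₁ ε where
  ne := H.ne.symm
  not₁ := H.not₂
  not₂ := H.not₁
  Ynon := H.Ynon
  mem := by
    rcases H.mem with h | h | h
    · exact Or.inr (Or.inl h)
    · exact Or.inl h
    · exact Or.inr (Or.inr h)
  s₁ := H.s₂
  s₂ := H.s₁
  sε := H.sε
  om₁ := H.om₂
  om₂ := H.om₁
  omY := H.omY
  at₁ := H.at₂
  at₂ := H.at₁
  sumY := H.sumY
  sumP := H.sumP
  vanish := fun ψ h h1 h2 h3 => H.vanish ψ h h2 h1 h3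
  regular := fun θ hθ g hg => by rw [← H.regular θ hθ g hg]; ring

/-- The squares of the values above a central character. -/
theorem column {u s : G} (L : Loc p u s) (ψ₀ : IrrCharacter G) :
    ∑ ψ ∈ overC ψ₀, (ψ : G → ℂ) u * conj ((ψ : G → ℂ) u) = (p : ℂ) := by
  classical
  letI := Fintype.ofFinite (Subgroup.center G)
  have h := average ψ₀ fun ψ => (ψ : G → ℂ) u * conj ((ψ : G → ℂ) u)
  have hin : ∀ z : Subgroup.center G,
      ∑ ψ : IrrCharacter G, conj (omega ψ z : ℂ) * ((ψ : G → ℂ) u * conj ((ψ : G → ℂ) u)) =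
        if z = 1 then ((p * Nat.card (Subgroup.center G) : ℕ) : ℂ) else 0 := by
    intro z
    rw [Finset.sum_congr rfl (g := fun ψ : IrrCharacter G =>
      (ψ : G → ℂ) u * conj ((ψ : G → ℂ) ((z : G) * u))) fun ψ _ => by
        rw [omega_spec, map_mul]; ring, Char.sum_irr_mul_conj]
    by_cases hz : z = 1
    · rw [if_pos hz, hz, OneMemClass.coe_one, one_mul, if_pos (IsConj.refl u), L.card_centralizer]
    · rw [if_neg hz, if_neg fun hc => hz (Subtype.ext (L.center_of_conj z.2 hc))]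
  simp only [hin, mul_ite, mul_zero, Finset.sum_ite_eq', Finset.mem_univ, if_true, map_one,
    Units.val_one, one_mul, Nat.cast_mul] at h
  refine mul_left_cancel₀ (Nat.cast_ne_zero.2 (Nat.card_pos (α := Subgroup.center G)).ne') ?_
  rw [← h]
  ring

/-- The trace of the inverting element is bounded by the multiplicity of the trivial exponent. -/
theorem trace_bound {u s : G} (L : Loc p u s) (hp2 : p ≠ 2) {χ : G → ℂ} (hχ : IsCharacter G χ) :
    ∃ n : ℕ, ∑ i : ZMod p, χ (pw u i) = (p : ℂ) * n ∧ ‖χ s‖ ≤ (n : ℝ) := by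
  classical
  set Q := Subgroup.zpowers u with hQ
  have hQp : Nat.card Q = p := by rw [Nat.card_zpowers, L.hu]
  have hu : u ∈ Q := Subgroup.mem_zpowers u
  set H := Subgroup.normalizer (Q : Set G) with hH
  have hsH : s ∈ H := by
    rw [hH, Subgroup.mem_normalizer_iff]
    intro w
    constructor
    · rintro ⟨j, rfl⟩
      exact ⟨-j, by simp only; rw [← conj_zpow, L.inv, inv_zpow, zpow_neg]⟩
    · rintro ⟨j, hj⟩
      refine ⟨-j, ?_⟩
      simp only at hj ⊢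
      have h1 : s * (u ^ (-j)) * s⁻¹ = u ^ j := by rw [← conj_zpow, L.inv, inv_zpow, zpow_neg, inv_inv]
      exact mul_left_cancel (mul_right_cancel (h1.trans hj))
  set Q' := Q.subgroupOf H with hQ'
  haveI : Q'.Normal := Subgroup.normal_in_normalizer
  letI : Fintype H := Fintype.ofFinite _
  letI : Fintype Q' := Fintype.ofFinite _
  have hQH : Q ≤ H := Subgroup.le_normalizer
  have hQ'p : Nat.card Q' = p := by
    rw [hQ', Nat.card_congr (Subgroup.subgroupOfEquivOfLe hQH).toEquiv, hQp]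
  have hη : IsCharacter H (avgN Q' fun x : H => χ x) := IsChar.avgN Q' (IsChar.res hχ H)
  obtain ⟨n, hn⟩ := IsChar.one_eq_nat hη
  have hu1 : u ≠ 1 := L.u_ne
  let e : ZMod p → Q' := fun i => ⟨⟨pw u i, hQH (pw_mem hQp hu hu1 i)⟩, pw_mem hQp hu hu1 i⟩
  have he : Function.Bijective e := (Nat.bijective_iff_injective_and_card e).2
    ⟨fun i j h => pw_inj hQp hu hu1 (congrArg (fun w : Q' => ((w : H) : G)) h),
      by rw [Nat.card_zmod, hQ'p]⟩
  have hp0 : (p : ℂ) ≠ 0 := Nat.cast_ne_zero.2 hp.out.ne_zero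
  have hsum : ∀ g : H, avgN Q' (fun x : H => χ x) g =
      (p : ℂ)⁻¹ * ∑ i : ZMod p, χ (pw u i * (g : G)) := by
    intro g
    simp only [avgN]
    rw [hQ'p, ← he.sum_comp fun w : Q' => χ (((w : H) * g : H) : G)]
    rfl
  refine ⟨n, ?_, ?_⟩
  · rw [← hn, hsum]
    simp only [OneMemClass.coe_one, mul_one]
    rw [mul_inv_cancel_left₀ hp0]
  · have hsv : avgN Q' (fun x : H => χ x) ⟨s, hsH⟩ = χ s := by
      rw [hsum, Finset.sum_congr rfl (g := fun _ => χ s) fun i _ => ?_, Finset.sum_const,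
        Finset.card_univ, ZMod.card, nsmul_eq_mul, inv_mul_cancel_left₀ hp0]
      obtain ⟨k, hk⟩ := hp.out.odd_of_ne_two hp2
      set a : ℕ := i.val * (k + 1)
      have e1 : pw u i * s = u ^ a * s * (u ^ a)⁻¹ := by
        have e2 : pw u i = u ^ (2 * a) := by
          have e4 : 2 * a = i.val + p * i.val := by
            have : p * i.val = (2 * k + 1) * i.val := congrArg (· * i.val) hk
            simp only [a]
            linarith
          have e5 : u ^ p = 1 := by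
            have := pow_orderOf_eq_one u
            rwa [L.hu] at this
          rw [pw, e4, pow_add, pow_mul, e5, one_pow, mul_one]
        have e3 : s * u ^ a * s⁻¹ = (u ^ a)⁻¹ := by rw [← conj_pow, L.inv, inv_pow]
        calc pw u i * s = u ^ a * (u ^ a) * s := by rw [e2, two_mul, pow_add]
          _ = u ^ a * (s * u ^ a * s⁻¹)⁻¹ * s := by rw [e3, inv_inv]
          _ = _ := by group
      show χ (pw u i * s) = χ s
      rw [e1]
      exact IsChar.classFun hχ s (u ^ a)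
    have h := IsChar.norm_le hη ⟨s, hsH⟩
    rwa [hsv, hn, Complex.norm_natCast] at h

theorem exists_shape_at {u s : G} (L : Loc p u s) (hp2 : p ≠ 2) (ψ₀ : IrrCharacter G)
    (hnd : ¬ p ∣ charDegree (ψ₀ : G → ℂ)) :
    ∃ (a₁ a₂ : IrrCharacter G) (Y : Finset (IrrCharacter G)) (c₁ c₂ ε : ℤ),
      Shape p ψ₀ a₁ a₂ Y c₁ c₂ ε := by
  classical
  obtain ⟨M, hM⟩ := exists_isPModular p hp.out
  set B := blockOf M (ψ₀ : G → ℂ) with hBdef
  have hB : IsPBlock M B := isPBlock_blockOf ψ₀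
  have hψB : ψ₀ ∈ B := mem_blockOf_self hM ψ₀
  have hfac : (Nat.card G).factorization p = 1 := by
    rw [← (Subgroup.zpowers u).card_mul_index, Nat.card_zpowers, L.hu,
      Nat.factorization_mul hp.out.ne_zero
      Subgroup.index_ne_zero_of_finite, Finsupp.add_apply, hp.out.factorization_self,
      Nat.factorization_eq_zero_of_not_dvd L.hsyl]
  have hd : blockDefect p B ≠ 0 := by
    intro h
    have h1 := (blockDefect_zero_iff_full hM hB).1 h ψ₀ hψB
    rw [hfac, Nat.factorization_eq_zero_of_not_dvd hnd] at h1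
    omega
  obtain ⟨P, b, θ, T, u₀, hPp, hsyl, hθ, hθP, haB, hT, hu₀, hu₁⟩ := exists_setup hM hB hd hfac
  obtain ⟨R, X, y, c, ε, hD⟩ := exists_data hM hPp hsyl hθ hθP hB haB hd hT hu₀ hu₁
  set N := Subgroup.normalizer (P : Set G) with hN
  letI : Fintype (N ⧸ T.subgroupOf N) := Fintype.ofFinite _
  letI : Fintype (CG P) := Fintype.ofFinite _
  have hzpow : Subgroup.zpowers u₀ = P := mem_zpowers_of_prime hPp hu₀ hu₁
  have hord : orderOf u₀ = p := orderOf_gen hPp hu₀ hu₁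
  obtain ⟨s', L₀⟩ := L.of_ord hord
  have hPC : P ≤ CG P := le_cg hPp
  have hZC : Subgroup.center G ≤ CG P := Subgroup.center_le_centralizer _
  have hdecomp : ∀ v : CG P, ∃ (i : ℕ) (z : G), z ∈ Subgroup.center G ∧ (v : G) = u₀ ^ i * z :=
    fun v => L₀.cent v (Subgroup.mem_centralizer_iff.1 v.2 u₀ hu₀).symm
  have hcomm : ∀ a b : CG P, a * b = b * a := fun a b => by
    obtain ⟨i, z, hz, e⟩ := hdecomp a
    obtain ⟨j, w, hw, e'⟩ := hdecomp b
    refine Subtype.ext ?_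
    show (a : G) * b = b * a
    have h1 : Commute (a : G) u₀ := (Subgroup.mem_centralizer_iff.1 a.2 u₀ hu₀).symm
    rw [e']
    exact ((h1.pow_right j).mul_right (show Commute (a : G) w from Subgroup.mem_center_iff.1 hw _)).eq
  have hθ1 : (θ : CG P → ℂ) 1 = 1 := IsIrr.one_of_comm hcomm θ.2
  let zC : Subgroup.center G → CG P := fun z => ⟨z, hZC z.2⟩
  have hθv : ∀ (v : CG P) (i : ℕ) (z : Subgroup.center G), (v : G) = u₀ ^ i * z →
      (θ : CG P → ℂ) v = (θ : CG P → ℂ) (zC z) := by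
    intro v i z e
    rw [show v = (⟨u₀ ^ i, hPC (pow_mem hu₀ i)⟩ : CG P) * zC z from Subtype.ext e]
    exact char_mul_ker (irr_isChar θ) (hθP _ (pow_mem hu₀ i)) _
  have hTN : T = N := by
    ext g
    rw [hT]
    refine ⟨fun h => h.1, fun hg => ⟨hg, fun v v' hv => ?_⟩⟩
    obtain ⟨i, z, hz, e⟩ := hdecomp v
    have hm : g * u₀ ^ i * g⁻¹ ∈ P := (Subgroup.mem_normalizer_iff.1 hg _).1 (pow_mem hu₀ i)
    rw [← hzpow] at hm
    obtain ⟨k, hk⟩ := mem_powers_iff_mem_zpowers.2 hm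
    simp only at hk
    rw [hθv v i ⟨z, hz⟩ e, hθv v' k ⟨z, hz⟩ (by
      rw [hv, e, hk, mul_assoc g, mul_assoc (u₀ ^ i), ← Subgroup.mem_center_iff.1 hz g⁻¹]
      group)]
  have hrel2 : (CG P).relIndex N = 2 := by
    have hs'N : s' ∈ N := by
      rw [hN, ← hzpow, Subgroup.mem_normalizer_iff]
      intro w
      constructor
      · rintro ⟨j, rfl⟩
        exact ⟨-j, by simp only; rw [← conj_zpow, L₀.inv, inv_zpow, zpow_neg]⟩
      · rintro ⟨j, hj⟩
        refine ⟨-j, ?_⟩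
        simp only at hj ⊢
        have h1 : s' * (u₀ ^ (-j)) * s'⁻¹ = u₀ ^ j := by
          rw [← conj_zpow, L₀.inv, inv_zpow, zpow_neg, inv_inv]
        exact mul_left_cancel (mul_right_cancel (h1.trans hj))
    have hmem : ∀ g : G, g ∈ CG P ↔ g * u₀ * g⁻¹ = u₀ := by
      intro g
      rw [mul_inv_eq_iff_eq_mul]
      refine ⟨fun hg => (Subgroup.mem_centralizer_iff.1 hg u₀ hu₀).symm, fun hg => ?_⟩
      refine Subgroup.mem_centralizer_iff.2 fun v hv => ?_
      rw [← hzpow] at hv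
      obtain ⟨n, rfl⟩ := Subgroup.mem_zpowers_iff.1 hv
      exact ((show Commute g u₀ from hg).zpow_right n).eq.symm
    have hne : u₀⁻¹ ≠ u₀ := fun e => by
      have h2 : orderOf u₀ ∣ 2 := orderOf_dvd_of_pow_eq_one (by
        rw [pow_two]; exact inv_eq_iff_mul_eq_one.1 e)
      rw [hord] at h2
      exact hp2 ((Nat.prime_dvd_prime_iff_eq hp.out Nat.prime_two).1 h2)
    show ((CG P).subgroupOf N).index = 2
    refine Subgroup.index_eq_two_iff.2 ⟨⟨s', hs'N⟩, fun g => ?_⟩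
    simp only [Subgroup.mem_subgroupOf, Subgroup.coe_mul, hmem]
    have e1 : (g : G) * s' * u₀ * ((g : G) * s')⁻¹ = ((g : G) * u₀ * (g : G)⁻¹)⁻¹ := by
      rw [show (g : G) * s' * u₀ * ((g : G) * s')⁻¹ = (g : G) * (s' * u₀ * s'⁻¹) * (g : G)⁻¹ by group,
        L₀.inv]
      group
    rw [e1, inv_eq_iff_eq_inv]
    rcases L₀.norm (g : G) (by rw [hzpow]; exact g.2) with h | h
    · exact Or.inr ⟨h, by rw [h]; exact hne.symm⟩
    · exact Or.inl ⟨h, by rw [h]; exact hne⟩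
  have hrelT : (CG P).relIndex T = 2 := hTN ▸ hrel2
  haveI : Subsingleton (N ⧸ T.subgroupOf N) := by
    rw [hTN, Subgroup.subgroupOf_self]
    exact QuotientGroup.subsingleton_quotient_top
  let q₀ : N ⧸ T.subgroupOf N := ((1 : N) : N ⧸ T.subgroupOf N)
  have huniv : (Finset.univ : Finset (N ⧸ T.subgroupOf N)) = {q₀} :=
    Finset.eq_singleton_iff_unique_mem.2 ⟨Finset.mem_univ _, fun q _ => Subsingleton.elim _ _⟩
  obtain ⟨r, hr⟩ := exists_multiplier hPp hu₀ hu₁ hN T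
  set r₀ : ZMod p := (r q₀ : ZMod p)
  have hr0 : r₀ ≠ 0 := (r q₀).ne_zero
  have hfix : ∀ z : Subgroup.center G, (q₀.out : G)⁻¹ * (zC z : G) * q₀.out = (zC z : G) := fun z => by
    show (q₀.out : G)⁻¹ * (z : G) * q₀.out = z
    rw [Subgroup.mem_center_iff.1 z.2, mul_assoc, inv_mul_cancel, mul_one]
  have hzCr : ∀ z : Subgroup.center G, ¬ p ∣ orderOf (zC z) := fun z hd => L.zreg (hd.trans (by
    rw [← Subgroup.orderOf_coe]
    exact Subgroup.orderOf_dvd_natCard _ z.2))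
  have hext : ∀ z : Subgroup.center G, extendByZero (CG P) (θ : CG P → ℂ)
      ((q₀.out : G)⁻¹ * (zC z : G) * q₀.out) = (θ : CG P → ℂ) (zC z) := fun z => by
    rw [hfix]
    exact extendByZero_of_mem _ _
  have hθone : (θ : CG P → ℂ) (zC 1) = 1 := by rw [show zC 1 = 1 from rfl, hθ1]
  -- values at `u₀ ^ i z`
  have hvX : ∀ χ ∈ X, ∀ i : ZMod p, i ≠ 0 → ∀ z : Subgroup.center G,
      (χ : G → ℂ) (pw u₀ i * (z : G)) = -(c χ : ℂ) * (θ : CG P → ℂ) (zC z) := by
    intro χ hχ i hi z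
    rw [show (z : G) = (zC z : G) from rfl, value_X hM hPp hsyl hθ hθP haB hT hu₀ hu₁ hD hN hχ
      (pw_mem hPp hu₀ hu₁ i) (pw_ne_one hPp hu₀ hu₁ hi) (hzCr z), huniv, Finset.sum_singleton, hext]
  have hvY : ∀ q, ∀ i : ZMod p, i ≠ 0 → ∀ z : Subgroup.center G,
      (y q : G → ℂ) (pw u₀ i * (z : G)) = (ε : ℂ) * cosum R q (i * r₀) * (θ : CG P → ℂ) (zC z) := by
    intro q i hi z
    rw [show (z : G) = (zC z : G) from rfl,
      value_Y hM hPp hsyl hθ hθP haB hT hu₀ hu₁ hD hN hr q hi (hzCr z), huniv, Finset.sum_singleton,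
      hext, mul_assoc]
  have hvX1 : ∀ χ ∈ X, ∀ i : ZMod p, i ≠ 0 → (χ : G → ℂ) (pw u₀ i) = -(c χ : ℂ) := by
    intro χ hχ i hi
    have h := hvX χ hχ i hi 1
    rwa [OneMemClass.coe_one, mul_one, hθone, mul_one] at h
  have hvY1 : ∀ q, ∀ i : ZMod p, i ≠ 0 → (y q : G → ℂ) (pw u₀ i) = (ε : ℂ) * cosum R q (i * r₀) := by
    intro q i hi
    have h := hvY q i hi 1
    rwa [OneMemClass.coe_one, mul_one, hθone, mul_one] at h
  have hR2 : Nat.card R = 2 := hD.card_R.trans hrelT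
  letI : Fintype ((ZMod p)ˣ ⧸ R) := Fintype.ofFinite _
  have hunits : ∀ b : ZMod p, b ≠ 0 → ∑ j : (ZMod p)ˣ, ψc (b * (j : ZMod p)) = -1 := by
    intro b hb
    have h3 : ∑ j : (ZMod p)ˣ, ψc (b * (j : ZMod p)) =
        ∑ z ∈ Finset.univ.erase (0 : ZMod p), ψc (z * b) := by
      refine Finset.sum_bij (fun (j : (ZMod p)ˣ) _ => (j : ZMod p)) (fun j _ => by simp)
        (fun j _ j' _ e1 => Units.ext e1) (fun z hz => ?_) fun j _ => by rw [mul_comm]
      exact ⟨Units.mk0 z (Finset.ne_of_mem_erase hz), Finset.mem_univ _, rfl⟩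
    rw [h3, Finset.sum_erase_eq_sub (Finset.mem_univ _), ψc_sum, if_neg hb, zero_mul,
      AddChar.map_zero_eq_one]
    ring
  have hcsumq : ∀ b : ZMod p, b ≠ 0 → ∑ q, cosum R q b = -1 := by
    intro b hb
    simp only [cosum]
    rw [Finset.sum_comm]
    simp only [Finset.sum_ite_eq, Finset.mem_univ, if_true]
    exact hunits b hb
  have hcosum0 : ∀ q, cosum R q (0 : ZMod p) = 2 := by
    intro q
    simp only [cosum, zero_mul, AddChar.map_zero_eq_one, Finset.sum_boole]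
    rw [show (Finset.univ.filter fun j : (ZMod p)ˣ => (j : (ZMod p)ˣ ⧸ R) = q).card = 2 from ?_]
    · norm_num
    rw [← hR2, Nat.card_eq_fintype_card, ← Finset.card_univ]
    symm
    refine Finset.card_bij (fun (r : R) _ => q.out * (r : (ZMod p)ˣ)) (fun r _ => ?_)
      (fun r _ r' _ h => Subtype.ext (mul_left_cancel h)) fun j hj => ?_
    · refine Finset.mem_filter.2 ⟨Finset.mem_univ _, ?_⟩
      rw [QuotientGroup.mk_mul_of_mem _ r.2, QuotientGroup.out_eq']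
    · refine ⟨⟨q.out⁻¹ * j, ?_⟩, Finset.mem_univ _, mul_inv_cancel_left _ _⟩
      rw [← QuotientGroup.eq, QuotientGroup.out_eq', (Finset.mem_filter.1 hj).2]
  have hcsumi : ∀ q, ∑ i : ZMod p, cosum R q (i * r₀) = 0 := by
    intro q
    simp only [cosum]
    rw [Finset.sum_comm]
    refine Finset.sum_eq_zero fun j _ => ?_
    split
    · simp only [mul_assoc]
      rw [ψc_sum, if_neg (mul_ne_zero hr0 j.ne_zero)]
    · exact Finset.sum_const_zero
  have hPsum : ∀ q, ∑ i : ZMod p, (y q : G → ℂ) (pw u₀ i) = (y q : G → ℂ) 1 - 2 * (ε : ℂ) := by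
    intro q
    rw [← Finset.add_sum_erase _ _ (Finset.mem_univ (0 : ZMod p)),
      Finset.sum_congr rfl (fun i hi => hvY1 q i (Finset.ne_of_mem_erase hi)),
      ← Finset.mul_sum, Finset.sum_erase_eq_sub (Finset.mem_univ _), hcsumi, zero_mul, hcosum0,
      show pw u₀ (0 : ZMod p) = 1 by simp [pw]]
    ring
  set Y := Finset.univ.image y with hYdef
  -- the reduction to the powers of `u₀`
  have hred : ∀ g : G, orderOf g = p → ∃ (k : G) (i : ZMod p), i ≠ 0 ∧ g = k * pw u₀ i * k⁻¹ := by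
    intro g hg
    obtain ⟨k, n, e⟩ := L₀.exists_conj hg
    refine ⟨k, n, fun h0 => ?_, by rw [pw_natCast hPp hu₀ hu₁, e]⟩
    rw [← pw_natCast hPp hu₀ hu₁, h0, show pw u₀ (0 : ZMod p) = 1 by simp [pw], mul_one,
      mul_inv_cancel] at e
    rw [e, orderOf_one] at hg
    exact hp.out.ne_one hg.symm
  have hom : ∀ ψ ∈ B, ∀ z : Subgroup.center G, (omega ψ z : ℂ) = (θ : CG P → ℂ) (zC z) := by
    intro ψ hψ z
    rcases (hD.mem_iff ψ).1 hψ with hX | ⟨q, rfl⟩
    · have h := hvX ψ hX 1 one_ne_zero z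
      rw [omega_right, hvX1 ψ hX 1 one_ne_zero, mul_comm] at h
      refine mul_left_cancel₀ ?_ h
      rcases hD.c_sign ψ hX with h1 | h1 <;> rw [h1] <;> norm_num
    · obtain ⟨i, hi, hne⟩ : ∃ i : ZMod p, i ≠ 0 ∧ cosum R q (i * r₀) ≠ 0 := by
        by_contra hc
        push Not at hc
        have h := hcsumi q
        rw [← Finset.add_sum_erase _ _ (Finset.mem_univ (0 : ZMod p)), zero_mul, hcosum0,
          Finset.sum_eq_zero fun i hi => hc i (Finset.ne_of_mem_erase hi), add_zero] at h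
        norm_num at h
      have h := hvY q i hi z
      rw [omega_right, hvY1 q i hi, mul_comm] at h
      refine mul_left_cancel₀ (mul_ne_zero ?_ hne) h
      rcases hD.ε_sign with h1 | h1 <;> rw [h1] <;> norm_num
  have hom' : ∀ ψ ∈ B, omega ψ = omega ψ₀ := fun ψ hψ =>
    MonoidHom.ext fun z => Units.ext ((hom ψ hψ z).trans (hom ψ₀ hψB z).symm)
  obtain ⟨a₁, a₂, hne, hX⟩ := Finset.card_eq_two.1 (hD.card_X.trans hrelT)
  have h₁ : a₁ ∈ X := hX ▸ Finset.mem_insert_self _ _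
  have h₂ : a₂ ∈ X := hX ▸ Finset.mem_insert_of_mem (Finset.mem_singleton_self _)
  have hYX : ∀ ψ ∈ Y, ψ ∉ X := fun ψ hψ => by
    obtain ⟨q, -, rfl⟩ := Finset.mem_image.1 hψ
    exact hD.disj q
  have hat : ∀ χ ∈ X, ∀ g : G, orderOf g = p → (χ : G → ℂ) g = -(c χ : ℂ) := by
    intro χ hχ g hg
    obtain ⟨k, i, hi, rfl⟩ := hred g hg
    rw [irr_classFun χ, hvX1 χ hχ i hi]
  refine ⟨a₁, a₂, Y, c a₁, c a₂, ε, ⟨hne, fun h => hYX _ h h₁, fun h => hYX _ h h₂, ?_, ?_,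
    hD.c_sign a₁ h₁, hD.c_sign a₂ h₂, hD.ε_sign, hom' a₁ ((hD.mem_iff _).2 (Or.inl h₁)),
    hom' a₂ ((hD.mem_iff _).2 (Or.inl h₂)), fun ψ hψ => ?_, hat a₁ h₁, hat a₂ h₂, fun g hg => ?_,
    fun g hg ψ hψ => ?_, fun ψ hω hn1 hn2 hnY g hg => ?_, fun ψ hψ g hg => ?_⟩⟩
  · exact Finset.univ_nonempty.image y
  · rcases (hD.mem_iff ψ₀).1 hψB with h | ⟨q, hq⟩
    · rw [hX, Finset.mem_insert, Finset.mem_singleton] at h
      exact h.elim Or.inl fun h => Or.inr (Or.inl h)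
    · exact Or.inr (Or.inr (Finset.mem_image.2 ⟨q, Finset.mem_univ _, hq⟩))
  · obtain ⟨q, -, rfl⟩ := Finset.mem_image.1 hψ
    exact hom' _ ((hD.mem_iff _).2 (Or.inr ⟨q, rfl⟩))
  · obtain ⟨k, i, hi, rfl⟩ := hred g hg
    rw [Finset.sum_image fun q _ q' _ h => hD.y_inj h,
      Finset.sum_congr rfl fun q _ => by rw [irr_classFun (y q), hvY1 q i hi], ← Finset.mul_sum,
      hcsumq _ (mul_ne_zero hi hr0)]
    ring
  · obtain ⟨q, -, rfl⟩ := Finset.mem_image.1 hψ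
    obtain ⟨k, i, hi, rfl⟩ := hred g hg
    rw [← hPsum q]
    refine Fintype.sum_equiv (Equiv.mulLeft₀ i hi) _ _ fun l => ?_
    show (y q : G → ℂ) (pw (k * pw u₀ i * k⁻¹) l) = (y q : G → ℂ) (pw u₀ (i * l))
    rw [pw, conj_pow, pw_pow hPp hu₀ hu₁, ZMod.natCast_zmod_val, irr_classFun (y q)]
  · obtain ⟨k, i, hi, rfl⟩ := hred g hg
    rw [irr_classFun ψ]
    obtain ⟨s'', L'⟩ := L.of_ord (show orderOf (pw u₀ i) = p by
      rw [← Nat.card_zpowers, mem_zpowers_of_prime hPp (pw_mem hPp hu₀ hu₁ i)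
        (pw_ne_one hPp hu₀ hu₁ hi), hPp])
    have hsub : X ∪ Y ⊆ overC ψ₀ := fun φ hφ => mem_overC.2 (hom' φ ((hD.mem_iff φ).2 (by
      rcases Finset.mem_union.1 hφ with h | h
      · exact Or.inl h
      · obtain ⟨q, -, hq⟩ := Finset.mem_image.1 h
        exact Or.inr ⟨q, hq⟩)))
    have hcol := column L' ψ₀
    rw [← Finset.sum_sdiff hsub, Finset.sum_union (Finset.disjoint_right.2 hYX)] at hcol
    have hXs : ∑ φ ∈ X, (φ : G → ℂ) (pw u₀ i) * conj ((φ : G → ℂ) (pw u₀ i)) = 2 := by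
      rw [Finset.sum_congr rfl (g := fun _ => (1 : ℂ)) fun φ hφ => by
        rw [hvX1 φ hφ i hi]
        rcases hD.c_sign φ hφ with h | h <;> simp [h], Finset.sum_const, hD.card_X, hrelT]
      norm_num
    have hYs : ∑ φ ∈ Y, (φ : G → ℂ) (pw u₀ i) * conj ((φ : G → ℂ) (pw u₀ i)) = (p : ℂ) - 2 := by
      rw [Finset.sum_image fun q _ q' _ h => hD.y_inj h,
        show (p : ℂ) - 2 = (p : ℂ) - (Nat.card R : ℂ) by rw [hR2]; norm_num,
        ← SCP.period_norm R (mul_ne_zero hi hr0)]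
      refine Finset.sum_congr rfl fun q _ => ?_
      rw [hvY1 q i hi, map_mul, map_intCast]
      rcases hD.ε_sign with h | h <;> simp [h, cosum]
    rw [hXs, hYs, add_sub_cancel, add_eq_right] at hcol
    have h2 : ∑ φ ∈ overC ψ₀ \ (X ∪ Y), Complex.normSq ((φ : G → ℂ) (pw u₀ i)) = 0 := by
      apply Complex.ofReal_injective
      push_cast
      rw [← hcol]
      exact Finset.sum_congr rfl fun φ _ => (Complex.mul_conj ((φ : G → ℂ) (pw u₀ i))).symm
    refine Complex.normSq_eq_zero.1 ((Finset.sum_eq_zero_iff_of_nonneg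
      fun φ _ => Complex.normSq_nonneg _).1 h2 ψ ?_)
    rw [Finset.mem_sdiff, Finset.mem_union, hX, Finset.mem_insert, Finset.mem_singleton]
    exact ⟨mem_overC.2 hω, fun h => h.elim (fun h => h.elim hn1 hn2) hnY⟩
  · obtain ⟨q, -, rfl⟩ := Finset.mem_image.1 hψ
    have h := hD.regular q g hg
    rw [hX, Finset.sum_pair hne] at h
    exact h

end Cfsg.Agent.Block.PMinusTwo
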