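import Mathlib
import Cfsg.Agent.Lib.Block.PMinusTwo.Shape

/-!
A faithful irreducible character of degree `p - 2`: a linear character with the same central
character, from comparing the class sums of the principal block with those of its block.
-/

set_option autoImplicit false

namespace Cfsg.Agent.Block.PMinusTwo

open scoped ComplexConjugate
open Cfsg Cfsg.Agent.Block Cfsg.Agent.Char Cfsg.Agent.Char.DefectOne

set_option linter.unusedSectionVars false
set_option maxHeartbeats 1600000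

universe u

variable {G : Type u} [Group G] [Fintype G] {p : ℕ} [hp : Fact p.Prime]
variable {u s : G} {ψ₀ a₁ a₂ : IrrCharacter G} {Y : Finset (IrrCharacter G)} {c₁ c₂ ε : ℤ}

/-- The degree and the trace bound at a constant row. -/
theorem bound_const (L : Loc p u s) (hp2 : p ≠ 2) (a : IrrCharacter G) (c : ℤ)
    (h : ∀ g : G, orderOf g = p → (a : G → ℂ) g = -(c : ℂ)) :
    ∃ n : ℕ, (charDegree (a : G → ℂ) : ℤ) - c * ((p : ℤ) - 1) = p * n ∧
      ‖(a : G → ℂ) s‖ ≤ (n : ℝ) := by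
  classical
  obtain ⟨n, hn, hb⟩ := trace_bound L hp2 (IsIrr.isCharacter a.2)
  refine ⟨n, ?_, hb⟩
  have hQp : Nat.card (Subgroup.zpowers u) = p := by rw [Nat.card_zpowers, L.hu]
  rw [← Finset.add_sum_erase _ _ (Finset.mem_univ (0 : ZMod p)),
    Finset.sum_congr rfl fun i hi => h (pw u i) (by
      rw [← Nat.card_zpowers, mem_zpowers_of_prime (P := Subgroup.zpowers u) hQp
        (pw_mem hQp (Subgroup.mem_zpowers u) L.u_ne i)
        (pw_ne_one hQp (Subgroup.mem_zpowers u) L.u_ne (Finset.ne_of_mem_erase hi)), hQp]),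
    Finset.sum_const, Finset.card_erase_of_mem (Finset.mem_univ _), Finset.card_univ, ZMod.card,
    nsmul_eq_mul, show pw u (0 : ZMod p) = 1 by simp [pw], charDeg_spec',
    Nat.cast_sub hp.out.one_lt.le, Nat.cast_one] at hn
  apply Int.cast_injective (α := ℂ)
  push_cast
  linear_combination hn

/-- The degree and the trace bound at an exceptional row. -/
theorem bound_exc (L : Loc p u s) (hp2 : p ≠ 2) (H : Shape p ψ₀ a₁ a₂ Y c₁ c₂ ε)
    {θ : IrrCharacter G} (hθ : θ ∈ Y) :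
    ∃ n : ℕ, (charDegree (θ : G → ℂ) : ℤ) - 2 * ε = p * n ∧ ‖(θ : G → ℂ) s‖ ≤ (n : ℝ) := by
  obtain ⟨n, hn, hb⟩ := trace_bound L hp2 (IsIrr.isCharacter θ.2)
  refine ⟨n, ?_, hb⟩
  rw [H.sumP u L.hu θ hθ, charDeg_spec'] at hn
  apply Int.cast_injective (α := ℂ)
  push_cast
  linear_combination hn

/-- The class sum through the rows. -/
theorem Phi_eq_rows (L : Loc p u s) (hp2 : p ≠ 2) (H : Shape p ψ₀ a₁ a₂ Y c₁ c₂ ε)
    {θ : IrrCharacter G} (hθ : θ ∈ Y) :
    Phi u s ψ₀ = ((-(c₁ : ℝ) * Complex.normSq ((a₁ : G → ℂ) s) / (charDegree (a₁ : G → ℂ) : ℝ)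
      - (c₂ : ℝ) * Complex.normSq ((a₂ : G → ℂ) s) / (charDegree (a₂ : G → ℂ) : ℝ)
      - (ε : ℝ) * Complex.normSq ((θ : G → ℂ) s) / (charDegree (θ : G → ℂ) : ℝ) : ℝ) : ℂ) := by
  classical
  have hsub : insert a₁ (insert a₂ Y) ⊆ overC ψ₀ := by
    intro ψ hψ
    rcases Finset.mem_insert.1 hψ with rfl | hψ
    · exact mem_overC.2 H.om₁
    rcases Finset.mem_insert.1 hψ with rfl | hψ
    · exact mem_overC.2 H.om₂
    · exact mem_overC.2 (H.omY ψ hψ)
  have hε0 : (ε : ℂ) ≠ 0 := by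
    rcases H.sε with h | h <;> rw [h] <;> norm_num
  have heq : ∀ θ' ∈ Y, ∀ g : G, ¬ p ∣ orderOf g → (θ' : G → ℂ) g = (θ : G → ℂ) g := by
    intro θ' hθ' g hg
    exact mul_left_cancel₀ hε0 (add_left_cancel ((H.regular θ' hθ' g hg).trans (H.regular θ hθ g hg).symm))
  have hs : ¬ p ∣ orderOf s := L.s_reg.resolve_right hp2
  have h1 : ¬ p ∣ orderOf (1 : G) := by rw [orderOf_one]; exact hp.out.not_dvd_one
  rw [Phi, ← Finset.sum_subset hsub fun ψ hψ hn => by
    simp only [Finset.mem_insert, not_or] at hn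
    rw [H.vanish ψ (mem_overC.1 hψ) hn.1 hn.2.1 hn.2.2 u L.hu, map_zero, zero_mul, zero_div],
    Finset.sum_insert (by simp [H.ne, H.not₁]), Finset.sum_insert H.not₂,
    Finset.sum_congr rfl (g := fun θ' : IrrCharacter G => conj ((θ' : G → ℂ) u) *
      ((Complex.normSq ((θ : G → ℂ) s) : ℂ) / (charDegree (θ : G → ℂ) : ℂ))) fun θ' hθ' => by
        rw [heq θ' hθ' s hs, heq θ' hθ' 1 h1, charDeg_spec' θ]; ring,
    ← Finset.sum_mul, ← map_sum, H.sumY u L.hu, H.at₁ u L.hu, H.at₂ u L.hu, charDeg_spec',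
    charDeg_spec']
  simp only [map_neg, map_intCast]
  push_cast
  ring

theorem norm_trivial {g : G} : Complex.normSq ((trivialIrr G : G → ℂ) g) = 1 := by
  rw [show (trivialIrr G : G → ℂ) g = 1 from rfl, map_one]

/-- The lower bound at the principal block. -/
theorem principal_bound (hp7 : 7 ≤ p) (L : Loc p u s) :
    ∃ r : ℝ, Phi u s (trivialIrr G) = (r : ℂ) ∧ ((p : ℝ) - 1) ^ 2 ≤ (p : ℝ) ^ 2 * r := by
  classical
  have hp2 : p ≠ 2 := by omega
  have hd1 : charDegree ((trivialIrr G : IrrCharacter G) : G → ℂ) = 1 := charDeg_trivial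
  obtain ⟨a₁, a₂, Y, c₁, c₂, ε, H⟩ := exists_shape_at L hp2 (trivialIrr G)
    (by rw [hd1]; exact hp.out.not_dvd_one)
  obtain ⟨θ, hθ⟩ := H.Ynon
  wlog h : trivialIrr G = a₁ generalizing a₁ a₂ c₁ c₂
  · rcases H.mem with e | e | e
    · exact absurd e h
    · exact this a₂ a₁ c₂ c₁ H.swap e
    · exfalso
      have h1 := H.sumP u L.hu _ e
      simp only [show ∀ g, (trivialIrr G : G → ℂ) g = 1 from fun _ => rfl, Finset.sum_const,
        Finset.card_univ, ZMod.card, nsmul_one] at h1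
      have h2 : ((p : ℤ) : ℂ) = ((1 - 2 * ε : ℤ) : ℂ) := by push_cast; exact h1
      have := Int.cast_injective h2
      rcases H.sε with h3 | h3 <;> omega
  subst h
  have hc₁ : c₁ = -1 := by
    have h1 : (1 : ℂ) = -(c₁ : ℂ) := H.at₁ u L.hu
    have h2 : ((c₁ : ℤ) : ℂ) = ((-1 : ℤ) : ℂ) := by push_cast; linear_combination h1
    exact Int.cast_injective h2
  have hreg1 : ¬ p ∣ orderOf (1 : G) := by rw [orderOf_one]; exact hp.out.not_dvd_one
  have hrel := H.regular θ hθ 1 hreg1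
  rw [hc₁, charDeg_spec', charDeg_spec', charDeg_spec', hd1] at hrel
  have hrelZ : -1 + c₂ * (charDegree (a₂ : G → ℂ) : ℤ) + ε * (charDegree (θ : G → ℂ) : ℤ) = 0 := by
    apply Int.cast_injective (α := ℂ)
    push_cast at hrel ⊢
    linear_combination hrel
  have hrels := H.regular θ hθ s (L.s_reg.resolve_right hp2)
  rw [hc₁, show (trivialIrr G : G → ℂ) s = 1 from rfl] at hrels
  refine ⟨_, Phi_eq_rows L hp2 H hθ, ?_⟩
  rw [norm_trivial, hd1, hc₁]
  obtain ⟨n, hn, hb⟩ := bound_const L hp2 a₂ c₂ H.at₂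
  obtain ⟨n', hn', hb'⟩ := bound_exc L hp2 H hθ
  have hdpos := charDeg_pos a₂
  have hθpos := charDeg_pos θ
  set d := charDegree (a₂ : G → ℂ)
  set dθ := charDegree (θ : G → ℂ)
  set x := (a₂ : G → ℂ) s
  set w := (θ : G → ℂ) s
  have hP : (7 : ℝ) ≤ (p : ℝ) := by exact_mod_cast hp7
  rcases H.s₂ with hc | hc
  · subst hc
    have hd6 : (p : ℤ) - 1 ≤ (d : ℤ) := by
      have : (0 : ℤ) ≤ (p : ℤ) * n := by positivity
      linarith
    have hε : ε = -1 := H.sε.resolve_left fun e => by rw [e] at hrelZ; omega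
    subst hε
    have hw : w = x - 1 := by push_cast at hrels; linear_combination -hrels
    have hdθ : (dθ : ℝ) = (d : ℝ) - 1 := by
      have : (dθ : ℤ) = (d : ℤ) - 1 := by linarith
      exact_mod_cast this
    have hnR : (d : ℝ) - ((p : ℝ) - 1) = (p : ℝ) * n := by
      have : (d : ℤ) - ((p : ℤ) - 1) = p * n := by linarith
      exact_mod_cast this
    have hd2 : (6 : ℝ) ≤ (d : ℝ) := by
      have : (p : ℝ) - 1 ≤ d := by exact_mod_cast hd6
      linarith
    -- the identity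
    have hid : (d : ℝ) * ((d : ℝ) - 1) *
        (-((-1 : ℤ) : ℝ) * 1 / ((1 : ℕ) : ℝ) - ((1 : ℤ) : ℝ) * Complex.normSq x / (d : ℝ) -
          ((-1 : ℤ) : ℝ) * Complex.normSq w / (dθ : ℝ)) = Complex.normSq ((d : ℂ) - x) := by
      rw [hdθ, hw]
      have h1 : (d : ℝ) ≠ 0 := by linarith
      have h2 : (d : ℝ) - 1 ≠ 0 := by linarith
      field_simp
      push_cast
      simp only [Complex.normSq_apply, Complex.sub_re, Complex.sub_im, Complex.one_re, Complex.one_im,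
        Complex.natCast_re, Complex.natCast_im]
      ring
    have hlow : (d : ℝ) - n ≤ ‖(d : ℂ) - x‖ := by
      have h1 := norm_sub_norm_le (d : ℂ) x
      rw [Complex.norm_natCast] at h1
      linarith
    have hlow2 : ((p : ℝ) - 1) * ((d : ℝ) + 1) ≤ (p : ℝ) * ‖(d : ℂ) - x‖ := by
      have := mul_le_mul_of_nonneg_left hlow (by linarith : (0 : ℝ) ≤ p)
      nlinarith
    have hsq := mul_self_le_mul_self (by nlinarith : (0 : ℝ) ≤ ((p : ℝ) - 1) * ((d : ℝ) + 1)) hlow2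
    rw [Complex.normSq_eq_norm_sq ((d : ℂ) - x)] at hid
    set Φ := -((-1 : ℤ) : ℝ) * 1 / ((1 : ℕ) : ℝ) - ((1 : ℤ) : ℝ) * Complex.normSq x / (d : ℝ) -
          ((-1 : ℤ) : ℝ) * Complex.normSq w / (dθ : ℝ)
    have hpos : (0 : ℝ) < (d : ℝ) * ((d : ℝ) - 1) := by nlinarith
    refine le_of_mul_le_mul_left ?_ hpos
    calc (d : ℝ) * ((d : ℝ) - 1) * ((p : ℝ) - 1) ^ 2
        ≤ ((d : ℝ) + 1) * ((d : ℝ) + 1) * ((p : ℝ) - 1) ^ 2 := by
          refine mul_le_mul_of_nonneg_right ?_ (sq_nonneg _)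
          nlinarith
      _ ≤ (p : ℝ) ^ 2 * ‖(d : ℂ) - x‖ ^ 2 := by nlinarith
      _ = _ := by rw [← hid]; ring
  · subst hc
    have hε : ε = 1 := H.sε.resolve_right fun e => by rw [e] at hrelZ; omega
    subst hε
    have hw : w = x + 1 := by push_cast at hrels; linear_combination hrels
    have hdθ : (dθ : ℝ) = (d : ℝ) + 1 := by
      have : (dθ : ℤ) = (d : ℤ) + 1 := by linarith
      exact_mod_cast this
    have hn'R : (d : ℝ) + 1 - 2 = (p : ℝ) * n' := by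
      have : (d : ℤ) + 1 - 2 = p * n' := by linarith
      exact_mod_cast this
    have hd2 : (1 : ℝ) ≤ (d : ℝ) := by exact_mod_cast hdpos
    have hid : (d : ℝ) * ((d : ℝ) + 1) *
        (-((-1 : ℤ) : ℝ) * 1 / ((1 : ℕ) : ℝ) - ((-1 : ℤ) : ℝ) * Complex.normSq x / (d : ℝ) -
          ((1 : ℤ) : ℝ) * Complex.normSq w / (dθ : ℝ)) = Complex.normSq ((d : ℂ) + 1 - w) := by
      rw [hdθ, hw]
      have h1 : (d : ℝ) ≠ 0 := by linarith
      have h2 : (d : ℝ) + 1 ≠ 0 := by linarith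
      field_simp
      push_cast
      simp only [Complex.normSq_apply, Complex.sub_re, Complex.sub_im, Complex.add_re, Complex.add_im,
        Complex.one_re, Complex.one_im, Complex.natCast_re, Complex.natCast_im]
      ring
    have hlow : (d : ℝ) + 1 - n' ≤ ‖(d : ℂ) + 1 - w‖ := by
      have h1 := norm_sub_norm_le ((d : ℂ) + 1) w
      have h2 : ‖(d : ℂ) + 1‖ = (d : ℝ) + 1 := by
        rw [show (d : ℂ) + 1 = ((d + 1 : ℕ) : ℂ) by push_cast; ring, Complex.norm_natCast]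
        push_cast; ring
      rw [h2] at h1
      linarith
    have hlow2 : ((p : ℝ) - 1) * ((d : ℝ) + 1) ≤ (p : ℝ) * ‖(d : ℂ) + 1 - w‖ := by
      have := mul_le_mul_of_nonneg_left hlow (by linarith : (0 : ℝ) ≤ p)
      nlinarith
    have hsq := mul_self_le_mul_self (by nlinarith : (0 : ℝ) ≤ ((p : ℝ) - 1) * ((d : ℝ) + 1)) hlow2
    rw [Complex.normSq_eq_norm_sq ((d : ℂ) + 1 - w)] at hid
    have hpos : (0 : ℝ) < (d : ℝ) * ((d : ℝ) + 1) := by nlinarith
    refine le_of_mul_le_mul_left ?_ hpos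
    calc (d : ℝ) * ((d : ℝ) + 1) * ((p : ℝ) - 1) ^ 2
        ≤ ((d : ℝ) + 1) * ((d : ℝ) + 1) * ((p : ℝ) - 1) ^ 2 := by
          refine mul_le_mul_of_nonneg_right ?_ (sq_nonneg _)
          nlinarith
      _ ≤ (p : ℝ) ^ 2 * ‖(d : ℂ) + 1 - w‖ ^ 2 := by nlinarith
      _ = _ := by rw [← hid]; ring

/-- A linear character with the same central character, and its partner of degree `p - 1`. -/
theorem exists_linear (hp7 : 7 ≤ p) (L : Loc p u s) (ζ : IrrCharacter G)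
    (hfaith : ∀ g : G, (ζ : G → ℂ) g = (ζ : G → ℂ) 1 → g = 1)
    (hdeg : charDegree (ζ : G → ℂ) + 2 = p) :
    ∃ (μ : G →* ℂˣ) (a : IrrCharacter G),
      (∀ z : Subgroup.center G, (μ (z : G) : ℂ) = (omega ζ z : ℂ)) ∧ omega a = omega ζ ∧
      charDegree (a : G → ℂ) + 1 = p ∧
      (∀ g : G, ¬ p ∣ orderOf g → (a : G → ℂ) g = (ζ : G → ℂ) g + (μ g : ℂ)) ∧
      ∀ g : G, orderOf g = p → (a : G → ℂ) g = -1 := by
  classical
  have hp2 : p ≠ 2 := by omega
  have hodd : Odd (charDegree (ζ : G → ℂ)) := by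
    obtain ⟨k, hk⟩ := hp.out.odd_of_ne_two hp2
    exact ⟨k - 1, by omega⟩
  obtain ⟨a₁, a₂, Y, c₁, c₂, ε, H⟩ := exists_shape_at L hp2 ζ fun hd => by
    have := Nat.le_of_dvd (charDeg_pos ζ) hd
    omega
  have hdz : (charDegree (ζ : G → ℂ) : ℤ) + 2 = p := by exact_mod_cast hdeg
  have hζY : ζ ∈ Y := by
    have hno : ∀ (a : IrrCharacter G) (c : ℤ), (c = 1 ∨ c = -1) →
        (∀ g : G, orderOf g = p → (a : G → ℂ) g = -(c : ℂ)) → ζ ≠ a := by
      intro a c hc ha e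
      subst e
      obtain ⟨n, hn, -⟩ := bound_const L hp2 ζ c ha
      have hdvd : ∀ b : ℤ, (p : ℤ) ∣ b → b ≠ 0 → b < p → -(p : ℤ) < b → False := fun b hb hb0 h1 h2 =>
        hb0 (Int.eq_zero_of_abs_lt_dvd hb (abs_lt.2 ⟨h2, h1⟩))
      rcases hc with rfl | rfl
      · exact hdvd (-1) ⟨n, by linarith⟩ (by norm_num) (by omega) (by omega)
      · exact hdvd (-3) ⟨(n : ℤ) - 2, by linarith⟩ (by norm_num) (by omega) (by omega)
    rcases H.mem with e | e | e
    · exact absurd e (hno a₁ c₁ H.s₁ H.at₁)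
    · exact absurd e (hno a₂ c₂ H.s₂ H.at₂)
    · exact e
  have hn1 : ε = -1 ∧ ‖(ζ : G → ℂ) s‖ ≤ 1 := by
    obtain ⟨n, hn, hb⟩ := bound_exc L hp2 H hζY
    rcases H.sε with e | e
    · exfalso
      rw [e] at hn
      have h0 := Int.eq_zero_of_abs_lt_dvd (show (p : ℤ) ∣ (4 : ℤ) from ⟨1 - n, by linarith⟩)
        (abs_lt.2 ⟨by omega, by omega⟩)
      norm_num at h0
    · refine ⟨e, ?_⟩
      rw [e] at hn
      have h1 : (p : ℤ) * n = p * 1 := by linarith
      have h2 : (n : ℤ) = 1 := mul_left_cancel₀ (by omega) h1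
      rw [show n = 1 by omega, Nat.cast_one] at hb
      exact hb
  obtain ⟨hε, hζs⟩ := hn1
  subst hε
  have hreg1 : ¬ p ∣ orderOf (1 : G) := by rw [orderOf_one]; exact hp.out.not_dvd_one
  have hrelZ : c₁ * (charDegree (a₁ : G → ℂ) : ℤ) + c₂ * (charDegree (a₂ : G → ℂ) : ℤ) =
      (charDegree (ζ : G → ℂ) : ℤ) := by
    have h := H.regular ζ hζY 1 hreg1
    rw [charDeg_spec', charDeg_spec', charDeg_spec'] at h
    apply Int.cast_injective (α := ℂ)
    push_cast at h ⊢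
    linear_combination h
  wlog hc : c₁ = 1 generalizing a₁ a₂ c₁ c₂
  · refine this a₂ a₁ c₂ c₁ H.swap (by linarith) ?_
    refine H.s₂.resolve_right fun e => ?_
    have e1 := H.s₁.resolve_left hc
    rw [e, e1] at hrelZ
    have := charDeg_pos ζ
    omega
  subst hc
  obtain ⟨n₁, hn₁, hb₁⟩ := bound_const L hp2 a₁ 1 H.at₁
  have hc2 : c₂ = -1 := H.s₂.resolve_left fun e => by
    subst e
    obtain ⟨n₂, hn₂, -⟩ := bound_const L hp2 a₂ 1 H.at₂
    have h1 : (0 : ℤ) ≤ (p : ℤ) * n₁ := by positivity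
    have h2 : (0 : ℤ) ≤ (p : ℤ) * n₂ := by positivity
    omega
  subst hc2
  obtain ⟨n₂, hn₂, hb₂⟩ := bound_const L hp2 a₂ (-1) H.at₂
  have hp0 : (p : ℤ) ≠ 0 := by omega
  have hrel12 : (n₂ : ℤ) = n₁ + 1 :=
    mul_left_cancel₀ hp0 (by linarith : (p : ℤ) * n₂ = p * (n₁ + 1))
  by_cases hm : n₂ = 1
  · have hd2 : charDegree (a₂ : G → ℂ) = 1 := by
      rw [hm] at hn₂
      omega
    obtain ⟨μ, hμ⟩ := linearHom_of_isCharacter (IsIrr.isCharacter a₂.2)
      (by rw [charDeg_spec', hd2, Nat.cast_one])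
    refine ⟨μ, a₁, fun z => ?_, H.om₁, ?_, fun g hg => ?_, fun g hg => ?_⟩
    · rw [← congrFun hμ, omega_at_one, H.om₂, charDeg_spec', hd2, Nat.cast_one, mul_one]
    · rw [hd2] at hrelZ
      omega
    · rw [← congrFun hμ]
      have h := H.regular ζ hζY g hg
      push_cast at h
      linear_combination h
    · rw [H.at₁ g hg]; norm_num
  exfalso
  have hm2 : 2 ≤ n₂ := by omega
  obtain ⟨r, hr, hrb⟩ := principal_bound hp7 L
  have hΦ := Phi_eq hp2 L.zreg ζ hfaith hodd L.hu L.ssq ζ (trivialIrr G)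
  rw [hr, Phi_eq_rows L hp2 H hζY, Complex.ofReal_inj] at hΦ
  have hrels := H.regular ζ hζY s (L.s_reg.resolve_right hp2)
  set d₁ := charDegree (a₁ : G → ℂ)
  set d₂ := charDegree (a₂ : G → ℂ)
  set q := charDegree (ζ : G → ℂ)
  set x₁ := (a₁ : G → ℂ) s
  set x₂ := (a₂ : G → ℂ) s
  set w := (ζ : G → ℂ) s
  have hw : x₁ = x₂ + w := by push_cast at hrels; linear_combination hrels
  set m := (n₂ : ℝ)
  have hP : (7 : ℝ) ≤ (p : ℝ) := by exact_mod_cast hp7
  have hm2R : (2 : ℝ) ≤ m := by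
    simp only [m]
    exact_mod_cast hm2
  have hd1R : (d₁ : ℝ) = m * p - 1 := by
    have : (d₁ : ℤ) = n₂ * p - 1 := by rw [hrel12]; linarith
    have h := congrArg (fun t : ℤ => (t : ℝ)) this
    simp only [m]
    push_cast at h
    exact h
  have hd2R : (d₂ : ℝ) = (m - 1) * p + 1 := by
    have : (d₂ : ℤ) = (n₂ - 1) * p + 1 := by linarith
    have h := congrArg (fun t : ℤ => (t : ℝ)) this
    simp only [m]
    push_cast at h
    exact h
  have hqR : (q : ℝ) = (p : ℝ) - 2 := by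
    have : (q : ℤ) = p - 2 := by linarith
    exact_mod_cast this
  have hd1pos : (0 : ℝ) < d₁ := by exact_mod_cast charDeg_pos a₁
  have hd2pos : (0 : ℝ) < d₂ := by exact_mod_cast charDeg_pos a₂
  have hqpos : (0 : ℝ) < q := by exact_mod_cast charDeg_pos ζ
  have hd12 : (d₁ : ℝ) = d₂ + q := by rw [hd1R, hd2R, hqR]; ring
  have hid : (d₁ : ℝ) * d₂ * q * r = Complex.normSq ((d₂ : ℂ) * w - (q : ℂ) * x₂) := by
    rw [← hΦ, hw]
    have h1 := hd1pos.ne'
    have h2 := hd2pos.ne'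
    have h3 := hqpos.ne'
    field_simp
    push_cast
    simp only [Complex.normSq_apply, Complex.sub_re, Complex.sub_im, Complex.add_re, Complex.add_im,
      Complex.mul_re, Complex.mul_im, Complex.natCast_re, Complex.natCast_im]
    rw [hd12]
    ring
  have hup : ‖(d₂ : ℂ) * w - (q : ℂ) * x₂‖ ≤ (2 * m - 1) * ((p : ℝ) - 1) := by
    refine (norm_sub_le _ _).trans ?_
    rw [norm_mul, norm_mul, Complex.norm_natCast, Complex.norm_natCast]
    have e1 := mul_le_mul_of_nonneg_left hζs hd2pos.le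
    have e2 := mul_le_mul_of_nonneg_left hb₂ hqpos.le
    rw [hd2R, hqR] at *
    nlinarith
  have hup2 := mul_self_le_mul_self (norm_nonneg _) hup
  rw [Complex.normSq_eq_norm_sq, pow_two] at hid
  rw [← hid] at hup2
  have hprod : m * (m - 1) * (p : ℝ) ^ 2 ≤ (d₁ : ℝ) * d₂ := by
    rw [hd1R, hd2R]
    nlinarith
  have hpos : (0 : ℝ) < (d₁ : ℝ) * d₂ * q := by positivity
  have h4 : (d₁ : ℝ) * d₂ * q * ((p : ℝ) - 1) ^ 2 ≤
      ((2 * m - 1) * ((p : ℝ) - 1)) * ((2 * m - 1) * ((p : ℝ) - 1)) * (p : ℝ) ^ 2 := by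
    have := mul_le_mul_of_nonneg_left hrb hpos.le
    nlinarith [mul_le_mul_of_nonneg_right hup2 (sq_nonneg (p : ℝ))]
  have h5 : (d₁ : ℝ) * d₂ * q ≤ (2 * m - 1) ^ 2 * (p : ℝ) ^ 2 :=
    le_of_mul_le_mul_right (by nlinarith) (show (0 : ℝ) < ((p : ℝ) - 1) ^ 2 by nlinarith)
  have h6 : m * (m - 1) * (p : ℝ) ^ 2 * q ≤ (2 * m - 1) ^ 2 * (p : ℝ) ^ 2 :=
    (mul_le_mul_of_nonneg_right hprod hqpos.le).trans h5
  have h7 : m * (m - 1) * q ≤ (2 * m - 1) ^ 2 := by
    refine le_of_mul_le_mul_right ?_ (show (0 : ℝ) < (p : ℝ) ^ 2 by positivity)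
    linarith
  have h8 : (2 : ℝ) ≤ m * (m - 1) := by nlinarith
  have h9 : m * (m - 1) * 5 ≤ m * (m - 1) * q :=
    mul_le_mul_of_nonneg_left (by rw [hqR]; linarith) (by linarith)
  nlinarith

end Cfsg.Agent.Block.PMinusTwo
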