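import Mathlib
import Cfsg.Agent.Lib.Block.PMinusTwo.Start
import Cfsg.Agent.Lib.Block.PMinusTwo.Linear
import Cfsg.Agent.Lib.Block.PMinusOne.Main
import Cfsg.Agent.Lib.Char.Quotient

/-!
A faithful irreducible character of degree `p - 2` and a Sylow subgroup of order `p` which is not
normal: the group is `SL(2, p - 1) × Z`.
-/

set_option autoImplicit false

namespace Cfsg.Agent.Block.PMinusTwo

open scoped ComplexConjugate
open Cfsg Cfsg.Agent.Block Cfsg.Agent.Char

set_option linter.unusedSectionVars false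
set_option maxHeartbeats 800000

universe u

variable {G : Type u} [Group G] [Fintype G] {p : ℕ} [hp : Fact p.Prime]

namespace Loc

variable {u s : G} (L : Loc p u s)
include L

theorem hyp_quotient : SCP.Hyp p (u : G ⧸ Subgroup.center G) := by
  refine ⟨orderOf_eq_prime ?_ ?_, ?_⟩
  · rw [← QuotientGroup.mk_pow, ← L.hu, pow_orderOf_eq_one, QuotientGroup.mk_one]
  · intro e
    refine L.u_ne (L.z_eq_one ((QuotientGroup.eq_one_iff u).1 e) ?_)
    rw [← L.hu, pow_orderOf_eq_one]
  · ext x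
    induction x using QuotientGroup.induction_on with | _ g => ?_
    rw [Subgroup.mem_centralizer_singleton_iff, ← QuotientGroup.mk_mul, ← QuotientGroup.mk_mul]
    constructor
    · intro h
      have hz : (g * u)⁻¹ * (u * g) ∈ Subgroup.center G := QuotientGroup.eq.1 h
      have hz' := inv_mem hz
      have hzz := Subgroup.mem_center_iff.1 hz'
      have e1 : g * u * g⁻¹ = ((g * u)⁻¹ * (u * g))⁻¹ * u := by
        rw [← hzz u]
        calc g * u * g⁻¹ = u * g * ((g * u)⁻¹ * (u * g))⁻¹ * g⁻¹ := by group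
          _ = u * (g * ((g * u)⁻¹ * (u * g))⁻¹) * g⁻¹ := by rw [mul_assoc u g]
          _ = u * (((g * u)⁻¹ * (u * g))⁻¹ * g) * g⁻¹ := by rw [hzz g]
          _ = _ := by group
      have e2 := L.center_of_conj hz' (isConj_iff.2 ⟨g, e1⟩)
      rw [e2, one_mul, mul_inv_eq_iff_eq_mul] at e1
      obtain ⟨i, z, hz0, rfl⟩ := L.cent g e1
      rw [QuotientGroup.mk_mul, (QuotientGroup.eq_one_iff z).2 hz0, mul_one, QuotientGroup.mk_pow]
      exact Subgroup.npow_mem_zpowers _ i
    · rintro ⟨i, hi⟩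
      simp only at hi
      rw [QuotientGroup.mk_mul, QuotientGroup.mk_mul, ← hi]
      exact ((Commute.refl _).zpow_left i).eq

theorem e_quotient (hp2 : p ≠ 2) : SCP.e (u : G ⧸ Subgroup.center G) = 2 := by
  have hx := L.hyp_quotient
  set x : G ⧸ Subgroup.center G := (u : G ⧸ Subgroup.center G) with hxdef
  have hne : x⁻¹ ≠ x := fun e => by
    have h2 : orderOf x ∣ 2 := orderOf_dvd_of_pow_eq_one (by
      rw [pow_two]; exact inv_eq_iff_mul_eq_one.1 e)
    rw [hx.ord] at h2
    exact hp2 ((Nat.prime_dvd_prime_iff_eq hp.out Nat.prime_two).1 h2)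
  have hmem : ∀ y : G ⧸ Subgroup.center G, y ∈ SCP.P x ↔ y * x * y⁻¹ = x := by
    intro y
    rw [mul_inv_eq_iff_eq_mul]
    refine ⟨fun hy => ?_, fun hy => SCP.mem_P_of_comm hx hy⟩
    obtain ⟨i, rfl⟩ := hy
    exact ((Commute.refl x).zpow_left i).eq
  have hs : (s : G ⧸ Subgroup.center G) * x * (s : G ⧸ Subgroup.center G)⁻¹ = x⁻¹ := by
    rw [hxdef, ← QuotientGroup.mk_inv, ← QuotientGroup.mk_mul, ← QuotientGroup.mk_mul, L.inv,
      QuotientGroup.mk_inv]
  have hsN : (s : G ⧸ Subgroup.center G) ∈ SCP.N x := by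
    rw [Subgroup.mem_normalizer_iff]
    intro w
    constructor
    · rintro ⟨j, rfl⟩
      exact ⟨-j, by simp only; rw [← conj_zpow, hs, inv_zpow, zpow_neg]⟩
    · rintro ⟨j, hj⟩
      refine ⟨-j, ?_⟩
      simp only at hj ⊢
      have h1 : (s : G ⧸ Subgroup.center G) * (x ^ (-j)) * (s : G ⧸ Subgroup.center G)⁻¹ = x ^ j := by
        rw [← conj_zpow, hs, inv_zpow, zpow_neg, inv_inv]
      exact mul_left_cancel (mul_right_cancel (h1.trans hj))
  have hall : ∀ y ∈ SCP.N x, y * x * y⁻¹ = x ∨ y * x * y⁻¹ = x⁻¹ := by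
    intro y hy
    induction y using QuotientGroup.induction_on with | _ g => ?_
    obtain ⟨k, hk⟩ := (Subgroup.mem_normalizer_iff.1 hy x).1 (Subgroup.mem_zpowers x)
    simp only at hk
    rw [hxdef, ← QuotientGroup.mk_zpow, ← QuotientGroup.mk_inv, ← QuotientGroup.mk_mul,
      ← QuotientGroup.mk_mul, QuotientGroup.eq] at hk
    have e : g * u * g⁻¹ = u ^ k * ((u ^ k)⁻¹ * (g * u * g⁻¹)) := by group
    have hz1 : (u ^ k)⁻¹ * (g * u * g⁻¹) = 1 := by
      refine L.z_eq_one hk ?_
      have h1 := congrArg (fun w => w ^ p) e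
      simp only [conj_pow,
        (show Commute (u ^ k) ((u ^ k)⁻¹ * (g * u * g⁻¹)) from
          Subgroup.mem_center_iff.1 hk _).mul_pow] at h1
      have hup : u ^ p = 1 := by rw [← L.hu, pow_orderOf_eq_one]
      rw [hup, mul_one, mul_inv_cancel, ← zpow_natCast (u ^ k), ← zpow_mul, mul_comm, zpow_mul,
        zpow_natCast, hup, one_zpow, one_mul] at h1
      exact h1.symm
    rw [hz1, mul_one] at e
    have hgN : g ∈ Subgroup.normalizer (Subgroup.zpowers u : Set G) := by
      have hPu : Subgroup.zpowers (u ^ k) = Subgroup.zpowers u := by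
        refine DefectOne.mem_zpowers_of_prime (p := p) (P := Subgroup.zpowers u)
          (by rw [Nat.card_zpowers, L.hu]) (Subgroup.zpow_mem_zpowers u k) fun h1 => L.u_ne ?_
        rw [h1] at e
        exact conj_eq_one_iff.1 e
      rw [Subgroup.mem_normalizer_iff]
      intro w
      constructor
      · rintro ⟨j, rfl⟩
        simp only
        rw [← conj_zpow, e, ← hPu]
        exact Subgroup.zpow_mem_zpowers _ j
      · intro hw
        rw [← hPu] at hw
        obtain ⟨j, hj⟩ := hw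
        simp only at hj
        refine ⟨j, ?_⟩
        simp only
        rw [← e, conj_zpow] at hj
        exact mul_left_cancel (mul_right_cancel hj)
    rcases L.norm g hgN with h | h
    · left; rw [hxdef, ← QuotientGroup.mk_inv, ← QuotientGroup.mk_mul, ← QuotientGroup.mk_mul, h]
    · right
      rw [hxdef, ← QuotientGroup.mk_inv, ← QuotientGroup.mk_mul, ← QuotientGroup.mk_mul, h,
        QuotientGroup.mk_inv]
  show ((SCP.P x).subgroupOf (SCP.N x)).index = 2
  refine Subgroup.index_eq_two_iff.2 ⟨⟨_, hsN⟩, fun y => ?_⟩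
  simp only [Subgroup.mem_subgroupOf, Subgroup.coe_mul, hmem]
  have e1 : (y : G ⧸ Subgroup.center G) * (s : G ⧸ Subgroup.center G) * x *
      ((y : G ⧸ Subgroup.center G) * (s : G ⧸ Subgroup.center G))⁻¹ =
      ((y : G ⧸ Subgroup.center G) * x * (y : G ⧸ Subgroup.center G)⁻¹)⁻¹ := by
    rw [show (y : G ⧸ Subgroup.center G) * (s : G ⧸ Subgroup.center G) * x *
      ((y : G ⧸ Subgroup.center G) * (s : G ⧸ Subgroup.center G))⁻¹ = (y : G ⧸ Subgroup.center G) *
        ((s : G ⧸ Subgroup.center G) * x * (s : G ⧸ Subgroup.center G)⁻¹) *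
          (y : G ⧸ Subgroup.center G)⁻¹ by group, hs]
    group
  rw [e1, inv_eq_iff_eq_inv]
  rcases hall _ y.2 with h | h
  · exact Or.inr ⟨h, by rw [h]; exact hne.symm⟩
  · exact Or.inl ⟨h, by rw [h]; exact hne⟩

end Loc

theorem main (hp7 : 7 ≤ p) (S : Sylow p G) (hS : Nat.card S = p)
    (hnn : ¬ (S : Subgroup G).Normal) (ζ : IrrCharacter G)
    (hfaith : ∀ g : G, (ζ : G → ℂ) g = (ζ : G → ℂ) 1 → g = 1)
    (hdeg : charDegree (ζ : G → ℂ) + 2 = p) :
    ∃ (m : ℕ) (F : Type) (_ : Field F) (_ : Fintype F), p = 2 ^ m + 1 ∧ Fintype.card F = 2 ^ m ∧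
      Nonempty (G ≃* Matrix.SpecialLinearGroup (Fin 2) F × Subgroup.center G) := by
  classical
  obtain ⟨u, s, L⟩ := exists_loc hp7 S hS hnn ζ hfaith hdeg
  obtain ⟨μ, a, hμ, hωa, hda, hreg, hat⟩ := exists_linear hp7 L ζ hfaith hdeg
  set Z := Subgroup.center G with hZ
  -- the character of degree `p - 1` of the quotient
  have hμn : ∀ g, ‖(μ g : ℂ)‖ = 1 := fun g => norm_eq_one_of_pow_eq_one' (Nat.card_pos (α := G))
    (by rw [← Units.val_pow_eq_pow_val, ← map_pow, pow_card_eq_one', map_one, Units.val_one])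
  set χ : G → ℂ := fun g => ((μ⁻¹ : G →* ℂˣ) g : ℂ) * (a : G → ℂ) g with hχdef
  have hχ : IsIrrCharacter G χ := IsIrr.mul_linear a.2 _
  have hχ1 : χ 1 = (charDegree (a : G → ℂ) : ℂ) := by simp [hχdef, charDeg_spec']
  have hker : ∀ z ∈ Z, χ z = χ 1 := by
    intro z hz
    simp only [hχdef, MonoidHom.inv_apply, map_one, inv_one, Units.val_one, one_mul]
    rw [omega_at_one a ⟨z, hz⟩, hωa, ← hμ ⟨z, hz⟩, ← mul_assoc, Units.inv_mul, one_mul]
  have hconv : ∀ g : G, χ g = χ 1 → g ∈ Z := by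
    intro g hg
    have hn : ‖(a : G → ℂ) g‖ = (charDegree (a : G → ℂ) : ℝ) := by
      have h1 := congrArg norm hg
      rw [hχ1, Complex.norm_natCast] at h1
      simpa [hχdef, hμn, norm_inv] using h1
    by_cases hgp : p ∣ orderOf g
    · exfalso
      obtain ⟨v, z, hv, hz, rfl⟩ := L.singular hgp
      rw [omega_right a ⟨z, hz⟩ v, hat v hv, norm_mul, norm_omega, norm_neg, norm_one, mul_one] at hn
      have h1 : charDegree (a : G → ℂ) = 1 := by exact_mod_cast hn.symm
      omega
    · rw [hreg g hgp] at hn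
      have h1 := norm_add_le ((ζ : G → ℂ) g) (μ g : ℂ)
      rw [hn, hμn] at h1
      have h2 := IsChar.norm_le (IsIrr.isCharacter ζ.2) g
      rw [charDeg_spec', Complex.norm_natCast] at h2
      refine mem_center_of_norm ζ hfaith (le_antisymm h2 ?_)
      have h3 : (charDegree (a : G → ℂ) : ℝ) = (charDegree (ζ : G → ℂ) : ℝ) + 1 := by
        exact_mod_cast (show charDegree (a : G → ℂ) = charDegree (ζ : G → ℂ) + 1 by omega)
      linarith
  obtain ⟨χ', hχ', hχ'v⟩ := IsIrr.exists_factor_quotient hχ Z hker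
  letI : Fintype (G ⧸ Z) := Fintype.ofFinite _
  have hd' : charDegree χ' + 1 = p := by
    rw [show charDegree χ' = charDegree (a : G → ℂ) by
      rw [charDegree, show (1 : G ⧸ Z) = ((1 : G) : G ⧸ Z) from rfl, hχ'v, hχ1]; simp]
    exact hda
  have hf' : ∀ x : G ⧸ Z, χ' x = χ' 1 → x = 1 := by
    intro x hx
    induction x using QuotientGroup.induction_on with | _ g => ?_
    rw [show (1 : G ⧸ Z) = ((1 : G) : G ⧸ Z) from rfl, hχ'v, hχ'v] at hx
    exact (QuotientGroup.eq_one_iff g).2 (hconv g hx)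
  obtain ⟨D⟩ := PMinusOne.exists_setting hp7 L.hyp_quotient (L.e_quotient (by omega))
    ⟨χ', hχ'⟩ hd' hf'
  obtain ⟨m, F, i1, i2, hF, hm, ⟨e⟩⟩ := D.iso
  have hperf := D.perfect
  -- the splitting
  let μZ : Z →* ℂˣ := μ.comp Z.subtype
  have hinj : Function.Injective μZ := by
    rw [injective_iff_map_eq_one]
    intro z hz
    refine Subtype.ext (hfaith z ?_)
    have h1 : (μ (z : G) : ℂ) = 1 := by rw [show μ (z : G) = 1 from hz, Units.val_one]
    rw [omega_at_one ζ z, ← hμ z, h1, one_mul]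
  have hrange : ∀ g : G, μ g ∈ μZ.range := by
    intro g
    have h1 : (g : G ⧸ Z) ∈ (commutator G).map (QuotientGroup.mk' Z) := by
      rw [commutator_def, Subgroup.map_commutator, ← MonoidHom.range_eq_map,
        MonoidHom.range_eq_top.2 (QuotientGroup.mk'_surjective Z), ← commutator_def, hperf]
      trivial
    obtain ⟨c, hc, hcg⟩ := h1
    have hz : c⁻¹ * g ∈ Z := QuotientGroup.eq.1 hcg
    refine ⟨⟨c⁻¹ * g, hz⟩, ?_⟩
    show μ (c⁻¹ * g) = μ g
    rw [map_mul, map_inv, show μ c = 1 from MonoidHom.mem_ker.1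
      (Abelianization.commutator_subset_ker μ hc), inv_one, one_mul]
  let e₁ : Z ≃* μZ.range := MonoidHom.ofInjective hinj
  let π : G →* Z := e₁.symm.toMonoidHom.comp (μ.codRestrict μZ.range hrange)
  let f : G →* (G ⧸ Z) × Z := (QuotientGroup.mk' Z).prod π
  have hf : Function.Bijective f := by
    refine (Nat.bijective_iff_injective_and_card f).2 ⟨(injective_iff_map_eq_one f).2 fun g hg => ?_, ?_⟩
    · have hgZ : g ∈ Z := (QuotientGroup.eq_one_iff g).1 (congrArg Prod.fst hg)
      have h2 : π g = 1 := congrArg Prod.snd hg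
      have h3 : (μ.codRestrict μZ.range hrange) g = 1 := e₁.symm.injective (h2.trans (map_one _).symm)
      have h4 : μ g = 1 := congrArg Subtype.val h3
      exact congrArg Subtype.val (hinj (show μZ ⟨g, hgZ⟩ = μZ 1 by rw [map_one]; exact h4))
    · rw [Nat.card_prod, ← Subgroup.card_eq_card_quotient_mul_card_subgroup]
  exact ⟨m, F, i1, i2, hm, hF, ⟨(MulEquiv.ofBijective f hf).trans (MulEquiv.prodCongr e (MulEquiv.refl _))⟩⟩

end Cfsg.Agent.Block.PMinusTwo
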